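/-
The Sylow two-subgroup of the linear subgroup: no large subgroup with a large elementary centre, and the size
of the space moved by an involution.
-/
import Cfsg.Agent.Lib.Fi24Q.Sylow
import Cfsg.Agent.Lib.Fi24Chz.Group

set_option autoImplicit false
set_option maxRecDepth 30000
set_option linter.style.haveILetI false
set_option linter.unusedSectionVars false

namespace CfsgLib.Fi24Chz

open Matrix CfsgLib.G24 CfsgLib.SUSixSub Equiv CfsgLib.Fi24Q

attribute [local irreducible] maskA maskB gensA tauN orbA orbB sGens sEls invs invMul linEls linInvs centMask dispL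

/-- The linear subgroup and the Frobenius map. -/
noncomputable def KS : Subgroup (Perm V) where
  carrier := {p | p ∈ KL ∨ p * Sg ∈ KL}
  one_mem' := Or.inl (one_mem _)
  mul_mem' := by
    intro p q hp hq
    have hc : ∀ {k}, k ∈ KL → Sg * k * Sg ∈ KL := fun {k} hk => by simpa [Sg_inv] using Sg_KL hk
    rcases hp with hp | hp <;> rcases hq with hq | hq
    · exact Or.inl (mul_mem hp hq)
    · exact Or.inr (by rw [mul_assoc]; exact mul_mem hp hq)
    · refine Or.inr ?_
      have := mul_mem hp (hc hq)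
      simpa [mul_assoc, ← mul_assoc Sg Sg, Sg_sq] using this
    · refine Or.inl ?_
      have := mul_mem hp (hc hq)
      simpa [mul_assoc, ← mul_assoc Sg Sg, Sg_sq] using this
  inv_mem' := by
    intro p hp
    rcases hp with hp | hp
    · exact Or.inl (inv_mem hp)
    · refine Or.inr ?_
      have := Sg_KL (inv_mem hp)
      simpa [mul_assoc, Sg_inv, Sg_sq, ← mul_assoc Sg Sg] using this

theorem T0_KS : T0 ≤ KS := (Subgroup.closure_le _).mpr (by
  rintro _ ⟨e, he, rfl⟩
  have h := List.all_eq_true.mp sEls_ok.2.2.1 e he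
  simp only [recB, Bool.and_eq_true] at h
  have hk : lin (elN e.1.1) ∈ KL := Subgroup.mem_map_of_mem _ (mem_word h.1 h.2)
  show peN e.1 ∈ KS
  unfold peN
  split
  · exact Or.inr (by rwa [mul_assoc, Sg_sq, mul_one])
  · exact Or.inl (by rwa [mul_one]))

theorem card_S0 : Nat.card ↥(T0 ⊓ KL) = 128 := by
  classical
  haveI : Fact (Nat.Prime 2) := ⟨Nat.prime_two⟩
  have hle : Nat.card T0 ≤ 2 * Nat.card ↥(T0 ⊓ KL) := by
    by_cases h : ∃ e ∈ T0, e ∉ KL
    · obtain ⟨e, he, he'⟩ := h
      have hout : ∀ p ∈ T0, p ∉ KL → p * e ∈ KL := fun p hp hp' => by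
        have h1 := (T0_KS hp).resolve_left hp'
        have h2 := Sg_KL ((T0_KS he).resolve_left he')
        have := mul_mem h1 h2
        simpa [mul_assoc, Sg_inv, ← mul_assoc Sg Sg, Sg_sq] using this
      let f : T0 → Bool × ↥(T0 ⊓ KL) := fun p =>
        if hp : (p : Perm V) ∈ KL then (false, ⟨p, p.2, hp⟩)
        else (true, ⟨p * e, mul_mem p.2 he, hout p p.2 hp⟩)
      have hf : Function.Injective f := fun p q h => by
        simp only [f] at h
        split at h <;> split at h <;> simp only [Prod.mk.injEq, Bool.false_eq_true, Bool.true_eq_false, false_and,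
          true_and, Subtype.mk.injEq, mul_left_inj] at h
        · exact Subtype.ext (congrArg Subtype.val h :)
        · exact Subtype.ext (mul_right_cancel (congrArg Subtype.val h :))
      refine (Nat.card_le_card_of_injective f hf).trans ?_
      rw [Nat.card_prod, Nat.card_eq_fintype_card (α := Bool), Fintype.card_bool]
    · push Not at h
      rw [inf_eq_left.mpr fun p hp => h p hp]
      omega
  rw [card_T0] at hle
  obtain ⟨n, hn⟩ := IsPGroup.iff_card.mp ((IsPGroup.of_card (p := 2) (n := 8) (by rw [card_T0]; norm_num) :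
    IsPGroup 2 T0).to_le (inf_le_left : T0 ⊓ KL ≤ T0))
  have hd := Subgroup.card_dvd_of_le (inf_le_right : T0 ⊓ KL ≤ KL)
  rw [hn, card_KL, show (9797760 : ℕ) = 2 ^ 7 * 76545 by norm_num] at hd
  have h7 : n ≤ 7 := (Nat.pow_dvd_pow_iff_le_right (by norm_num)).mp
    ((Nat.Coprime.pow_left n (show Nat.Coprime 2 76545 by norm_num)).dvd_of_dvd_mul_right hd)
  rw [hn] at hle ⊢
  have : 7 ≤ n := by
    by_contra h
    have := Nat.pow_le_pow_right (show 1 ≤ 2 by norm_num) (show n ≤ 6 by omega)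
    omega
  rw [show n = 7 by omega]
  norm_num

/-- Two-subgroups of the linear subgroup move into the listed one. -/
theorem into_T0 {P : Subgroup (Perm V)} (hP : P ≤ KL) (hP2 : IsPGroup 2 ↥P) :
    ∃ k ∈ KL, ∀ p ∈ P, k * p * k⁻¹ ∈ T0 ⊓ KL := by
  haveI : Fact (Nat.Prime 2) := ⟨Nat.prime_two⟩
  have hf : (9797760 : ℕ).factorization 2 = 7 := by
    rw [show (9797760 : ℕ) = 2 ^ 7 * 76545 by norm_num, Nat.factorization_mul (by norm_num) (by norm_num),
      Finsupp.add_apply, Nat.factorization_eq_zero_of_not_dvd (show ¬ 2 ∣ 76545 by norm_num),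
      Nat.factorization_pow, Finsupp.smul_apply, Nat.Prime.factorization_self Nat.prime_two]
    norm_num
  let S : Sylow 2 KL := Sylow.ofCard ((T0 ⊓ KL).subgroupOf KL) (by
    rw [Nat.card_congr (Subgroup.subgroupOfEquivOfLe inf_le_right).toEquiv, card_S0, card_KL, hf]; norm_num)
  obtain ⟨Q, hQ⟩ := (show IsPGroup 2 (P.subgroupOf KL) from
    hP2.of_equiv (Subgroup.subgroupOfEquivOfLe hP).symm).exists_le_sylow
  obtain ⟨k, hk⟩ := MulAction.exists_smul_eq KL Q S
  refine ⟨k, k.2, fun p hp => ?_⟩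
  have h1 := congrArg (fun S : Sylow 2 KL => (S : Subgroup KL)) hk
  simp only [Sylow.coe_subgroup_smul] at h1
  have hm : (MulAut.conj k) ⟨p, hP hp⟩ ∈ (S : Subgroup KL) := by
    rw [← h1]
    exact Subgroup.smul_mem_pointwise_smul _ _ _ (hQ (Subgroup.mem_subgroupOf.mpr hp))
  exact hm

theorem flag_lin {g : Γ} {E : Elt} (h : IsE (lin g) E) : E.2 = false := by
  by_contra hb
  rw [Bool.not_eq_false] at hb
  obtain ⟨hne, -⟩ := (sing_iff t0).mp (Or.inl t0_mem)
  have h1 := h (K.w • t0)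
  have h2 := h t0
  rw [(isIso_lin g).smul] at h1
  simp only [mapE, hb, cond_true] at h1 h2
  rw [show sgV (K.w • t0) = cjK K.w • sgV t0 from funext fun _ => cjK_mul _ _, Matrix.mulVec_smul, ← h2] at h1
  have h3 : (K.w + cjK K.w) • lin g t0 = 0 := by
    rw [add_smul, ← h1]
    exact funext fun i => (show ∀ x : K, x + x = 0 by decide) _
  rw [show K.w + cjK K.w = (1 : K) from rfl, one_smul] at h3
  exact hne ((lin g).injective (h3.trans (lin_zero g).symm))

theorem flag_KL {p : Perm V} (hp : p ∈ KL) {E : Elt} (h : IsE p E) : E.2 = false := by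
  obtain ⟨g, -, rfl⟩ := hp
  exact flag_lin h

/-- The linear elements of the listed group. -/
theorem mem_S0 {p : Perm V} (hp : p ∈ T0 ⊓ KL) : ∃ k ∈ linEls, k < 256 ∧ IsE p (elS k) := by
  obtain ⟨k, hk, he⟩ := mem_T0.mp hp.1
  have h := List.all_eq_true.mp linEls_ok.1 k (List.mem_range.mpr hk)
  rw [flag_KL hp.2 he, Bool.false_or] at h
  obtain ⟨a, ha, hka⟩ := List.any_eq_true.mp h
  exact ⟨k, (Nat.eq_of_beq_eq_true hka).symm ▸ ha, hk, he⟩

theorem inv_S0 {p : Perm V} (hp : p ∈ T0 ⊓ KL) (h2 : p * p = 1) (h1 : p ≠ 1) :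
    ∃ j < 35, linInvs.getD j 0 < 71 ∧ p = invP (linInvs.getD j 0) := by
  obtain ⟨i, hi, rfl⟩ := (inv_listed hp.1 h2).resolve_left h1
  have h := List.all_eq_true.mp linEls_ok.2.1 i (List.mem_range.mpr hi)
  rw [flag_KL hp.2 (invP_isE hi), Bool.false_or] at h
  obtain ⟨a, ha, hia⟩ := List.any_eq_true.mp h
  obtain ⟨j, hj, rfl⟩ := List.getElem_of_mem ha
  refine ⟨j, linEls_ok.2.2.1 ▸ hj, ?_⟩
  rw [List.getD_eq_getElem _ _ hj, ← Nat.eq_of_beq_eq_true hia]
  exact ⟨hi, rfl⟩

theorem cent_ok {j : ℕ} (hj : j < 35) : centB j = true := by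
  rcases (by omega : j < 9 ∨ (9 ≤ j ∧ j < 18) ∨ (18 ≤ j ∧ j < 27) ∨ (27 ≤ j ∧ j < 35)) with h | h | h | h
  · exact List.all_eq_true.mp cent_okA j (List.mem_range'_1.mpr ⟨Nat.zero_le j, by omega⟩)
  · exact List.all_eq_true.mp cent_okB j (List.mem_range'_1.mpr ⟨h.1, by omega⟩)
  · exact List.all_eq_true.mp cent_okC j (List.mem_range'_1.mpr ⟨h.1, by omega⟩)
  · exact List.all_eq_true.mp cent_okD j (List.mem_range'_1.mpr ⟨h.1, by omega⟩)

theorem mask_of_comm {j k : ℕ} (hj : j < 35) (hjl : linInvs.getD j 0 < 71) (hk : k ∈ linEls) {p : Perm V}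
    (hp : IsE p (elS k)) (hc : invP (linInvs.getD j 0) * p = p * invP (linInvs.getD j 0)) :
    (centMask.getD j 0).testBit k = true := by
  have h := List.all_eq_true.mp (cent_ok hj) k hk
  rw [Bool.or_eq_true, Bool.not_eq_true'] at h
  refine h.resolve_right fun hb => ?_
  have hm : mapE (mulE (invL j) (elS k)) = mapE (mulE (elS k) (invL j)) := funext fun v => by
    rw [invL, ← (invP_isE hjl).mul hp v, ← hp.mul (invP_isE hjl) v, hc]
  have hfl : (mulE (invL j) (elS k)).2 = (mulE (elS k) (invL j)).2 := Bool.xor_comm _ _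
  rw [beqE, beqM_of_map hfl hm, hfl, Bool.true_and, beq_self_eq_true] at hb
  exact Bool.noConfusion hb

theorem triple_small {a b c : ℕ} (ha : a < 35) (hba : b < a) (hcb : c < b) (hal : linInvs.getD a 0 < 71)
    (hbl : linInvs.getD b 0 < 71) (hcl : linInvs.getD c 0 < 71)
    (hS : ∀ j ∈ [a, b, c], invP (linInvs.getD j 0) ∈ T0 ⊓ KL)
    (hab : invP (linInvs.getD a 0) * invP (linInvs.getD b 0) = invP (linInvs.getD b 0) * invP (linInvs.getD a 0))
    (hac : invP (linInvs.getD a 0) * invP (linInvs.getD c 0) = invP (linInvs.getD c 0) * invP (linInvs.getD a 0))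
    (hbc : invP (linInvs.getD b 0) * invP (linInvs.getD c 0) = invP (linInvs.getD c 0) * invP (linInvs.getD b 0))
    (hne : invP (linInvs.getD a 0) * invP (linInvs.getD b 0) ≠ invP (linInvs.getD c 0))
    (hneq : linInvs.getD a 0 ≠ linInvs.getD b 0)
    {P : Subgroup (Perm V)} (hP : P ≤ T0 ⊓ KL)
    (hc : ∀ j ∈ [a, b, c], ∀ p ∈ P, invP (linInvs.getD j 0) * p = p * invP (linInvs.getD j 0)) :
    Nat.card P ≤ 16 := by
  classical
  have hel : ∀ j, linInvs.getD j 0 < 71 → IsE (invP (linInvs.getD j 0)) (elS (invs.getD (linInvs.getD j 0) 0)) :=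
    fun j hj => invP_isE hj
  have hin : ∀ j ∈ [a, b, c], linInvs.getD j 0 < 71 → invs.getD (linInvs.getD j 0) 0 ∈ linEls := fun j hj hjl => by
    obtain ⟨k, hk, hlt, he⟩ := mem_S0 (hS j hj)
    have e : k = invs.getD (linInvs.getD j 0) 0 := order_inj hlt (invs_lt hjl).1 (fp_congr he (hel j hjl))
    exact e ▸ hk
  have h := List.all_eq_true.mp (List.all_eq_true.mp triple_ok a (List.mem_range.mpr ha)) b (List.mem_range.mpr hba)
  have mab := mask_of_comm ha hal (hin b (by simp) hbl) (hel b hbl) hab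
  have mac := mask_of_comm ha hal (hin c (by simp) hcl) (hel c hcl) hac
  have mbc := mask_of_comm (by omega) hbl (hin c (by simp) hcl) (hel c hcl) hbc
  simp only [mab, Bool.not_true, Bool.false_or, List.all_eq_true, List.mem_range] at h
  have h' := h c hcb
  simp only [mac, mbc, Bool.and_self, Bool.not_true, Bool.false_or, Bool.or_eq_true, Nat.beq_eq, Nat.ble_eq] at h'
  rcases h' with h' | h'
  · exfalso
    obtain ⟨hA, hB⟩ := invP_mul hal hbl hneq
    have h127 : mulI (linInvs.getD a 0) (linInvs.getD b 0) ≠ 127 := fun e => hA e hab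
    exact hne (by rw [(hB h127).2, h'])
  refine le_trans ?_ h'
  have hk : ∀ p : P, ∃ k, k ∈ (linEls.filter fun k => (centMask.getD a 0).testBit k && (centMask.getD b 0).testBit k &&
      (centMask.getD c 0).testBit k) ∧ IsE (p : Perm V) (elS k) := fun p => by
    obtain ⟨k, hk, -, he⟩ := mem_S0 (hP p.2)
    refine ⟨k, List.mem_filter.mpr ⟨hk, ?_⟩, he⟩
    rw [mask_of_comm ha hal hk he (hc a (by simp) p p.2), mask_of_comm (by omega) hbl hk he (hc b (by simp) p p.2),
      mask_of_comm (by omega) hcl hk he (hc c (by simp) p p.2)]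
    rfl
  choose k hk1 hk2 using hk
  refine le_trans ?_ (List.toFinset_card_le _)
  rw [← Nat.card_eq_finsetCard]
  refine Nat.card_le_card_of_injective (fun p => ⟨k p, List.mem_toFinset.mpr (hk1 p)⟩) fun p q e => Subtype.ext ?_
  have e' : k p = k q := congrArg Subtype.val e
  exact Equiv.ext fun v => by rw [hk2 p v, hk2 q v, e']

/-- No large two-subgroup of the linear subgroup has a large elementary centre. -/
theorem no_large_centre {P E : Subgroup (Perm V)} (hP : P ≤ KL) (hP2 : IsPGroup 2 ↥P) (hE : E ≤ P)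
    (hc : ∀ e ∈ E, ∀ p ∈ P, e * p = p * e) (he2 : ∀ e ∈ E, e * e = 1) (h8 : 8 ≤ Nat.card E)
    (h32 : 32 ≤ Nat.card P) : False := by
  classical
  obtain ⟨k, hk, hkP⟩ := into_T0 hP hP2
  set P' := P.map (MulAut.conj k).toMonoidHom with hP'
  set E' := E.map (MulAut.conj k).toMonoidHom with hE'
  have hP'le : P' ≤ T0 ⊓ KL := by rintro _ ⟨p, hp, rfl⟩; exact hkP p hp
  have hcard : Nat.card E' = Nat.card E ∧ Nat.card P' = Nat.card P :=
    ⟨Subgroup.card_map_of_injective (MulAut.conj k).injective, Subgroup.card_map_of_injective (MulAut.conj k).injective⟩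
  have hE'P : E' ≤ P' := Subgroup.map_mono hE
  have hc' : ∀ e ∈ E', ∀ p ∈ P', e * p = p * e := by
    rintro _ ⟨e, he, rfl⟩ _ ⟨p, hp, rfl⟩
    rw [← map_mul, ← map_mul, hc e he p hp]
  have he2' : ∀ e ∈ E', e * e = 1 := by
    rintro _ ⟨e, he, rfl⟩
    rw [← map_mul, he2 e he, map_one]
  have hpick : ∀ s : Finset (Perm V), s.card < 8 → ∃ e ∈ E', e ∉ s := fun s hs => by
    by_contra hno
    push Not at hno
    have : Nat.card E' ≤ s.card := by
      rw [← Nat.card_eq_finsetCard]
      exact Nat.card_le_card_of_injective (fun e => ⟨e.1, hno e e.2⟩) fun a b h => Subtype.ext (congrArg Subtype.val h :)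
    omega
  obtain ⟨x, hx, hx'⟩ := hpick {1} (by simp)
  obtain ⟨y, hy, hy'⟩ := hpick {1, x} (lt_of_le_of_lt Finset.card_le_two (by norm_num))
  obtain ⟨w, hw, hw'⟩ := hpick {1, x, y, x * y} (lt_of_le_of_lt Finset.card_le_four (by norm_num))
  simp only [Finset.mem_insert, Finset.mem_singleton, not_or] at hx' hy' hw'
  have key : ∀ {e : Perm V}, e ∈ E' → e ≠ 1 → ∃ j < 35, linInvs.getD j 0 < 71 ∧ e = invP (linInvs.getD j 0) :=
    fun he h1 => inv_S0 (hP'le (hE'P he)) (he2' _ he) h1
  obtain ⟨a, ha, hal, ea⟩ := key hx hx'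
  obtain ⟨b, hb, hbl, eb⟩ := key hy hy'.1
  obtain ⟨c, hc2, hcl, ec⟩ := key hw hw'.1
  have main : ∀ {a b c : ℕ} {x y w : Perm V}, a < 35 → b < a → c < b → linInvs.getD a 0 < 71 →
      linInvs.getD b 0 < 71 → linInvs.getD c 0 < 71 → x ∈ E' → y ∈ E' → w ∈ E' → x = invP (linInvs.getD a 0) →
      y = invP (linInvs.getD b 0) → w = invP (linInvs.getD c 0) → x ≠ y → x * y ≠ w → False := by
    intro a b c x y w ha hba hcb hal hbl hcl hx hy hw ea eb ec hxy hne
    subst ea eb ec
    have hall : ∀ j ∈ [a, b, c], invP (linInvs.getD j 0) ∈ E' := by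
      intro j hj
      simp only [List.mem_cons, List.not_mem_nil, or_false] at hj
      rcases hj with rfl | rfl | rfl
      exacts [hx, hy, hw]
    have := triple_small ha hba hcb hal hbl hcl (fun j hj => hP'le (hE'P (hall j hj))) (hc' _ hx _ (hE'P hy))
      (hc' _ hx _ (hE'P hw)) (hc' _ hy _ (hE'P hw)) hne (fun e => hxy (by rw [e])) hP'le
      fun j hj p hp => hc' _ (hall j hj) p hp
    omega
  have hcomm : ∀ u ∈ E', ∀ v ∈ E', u * v = v * u := fun u hu v hv => hc' u hu v (hE'P hv)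
  have hxy : x ≠ y := fun e => hy'.2 e.symm
  have hxw : x ≠ w := fun e => hw'.2.1 e.symm
  have hyw : y ≠ w := fun e => hw'.2.2.1 e.symm
  have n1 : x * y ≠ w := fun e => hw'.2.2.2 e.symm
  have n2 : x * w ≠ y := fun e => n1 (by rw [← e, ← mul_assoc, he2' x hx, one_mul])
  have n3 : y * w ≠ x := fun e => n1 (by rw [← e, hcomm y hy w hw, mul_assoc, he2' y hy, mul_one])
  have sw : ∀ {u v t : Perm V}, u ∈ E' → v ∈ E' → u * v ≠ t → v * u ≠ t := fun hu hv h e =>
    h ((hcomm _ hu _ hv).trans e)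
  have dab : a ≠ b := fun e => hxy (by rw [ea, eb, e])
  have dac : a ≠ c := fun e => hxw (by rw [ea, ec, e])
  have dbc : b ≠ c := fun e => hyw (by rw [eb, ec, e])
  rcases lt_or_gt_of_ne dab with h1 | h1 <;> rcases lt_or_gt_of_ne dac with h2 | h2 <;>
    rcases lt_or_gt_of_ne dbc with h3 | h3 <;> try omega
  · exact main hc2 h3 h1 hcl hbl hal hw hy hx ec eb ea hyw.symm (sw hy hw n3)
  · exact main hb h3 h2 hbl hcl hal hy hw hx eb ec ea hyw n3
  · exact main hb h1 h2 hbl hal hcl hy hx hw eb ea ec hxy.symm (sw hx hy n1)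
  · exact main hc2 h2 h1 hcl hal hbl hw hx hy ec ea eb hxw.symm (sw hx hw n2)
  · exact main ha h2 h3 hal hcl hbl hx hw hy ea ec eb hxw n2
  · exact main ha h1 h3 hal hbl hcl hx hy hw ea eb ec hxy n1

theorem disp_ok {j : ℕ} (hj : j < 35) : dispB j = true := by
  rcases (by omega : j < 12 ∨ (12 ≤ j ∧ j < 24) ∨ (24 ≤ j ∧ j < 35)) with h | h | h
  · exact List.all_eq_true.mp disp_okA j (List.mem_range'_1.mpr ⟨Nat.zero_le j, by omega⟩)
  · exact List.all_eq_true.mp disp_okB j (List.mem_range'_1.mpr ⟨h.1, by omega⟩)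
  · exact List.all_eq_true.mp disp_okC j (List.mem_range'_1.mpr ⟨h.1, by omega⟩)

attribute [local irreducible] addN img invE

/-- An involution of the linear subgroup moves a space of order sixteen. -/
theorem disp_card {s : Perm V} (hs : s ∈ KL) (h2 : s * s = 1) (h1 : s ≠ 1) :
    (Set.range fun v => s v + v).ncard = 16 := by
  classical
  obtain ⟨k, hk, hkS⟩ := into_T0 (P := Subgroup.zpowers s) (Subgroup.zpowers_le.mpr hs) (by
    refine fun p => ⟨1, Subtype.ext ?_⟩
    obtain ⟨n, hn⟩ := Subgroup.mem_zpowers_iff.mp p.2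
    rw [Subgroup.coe_pow, OneMemClass.coe_one, pow_one, pow_two, ← hn, ← (Commute.refl s).mul_zpow, h2, _root_.one_zpow])
  obtain ⟨j, hj, hjl, hje⟩ := inv_S0 (hkS s (Subgroup.mem_zpowers s))
    (by rw [show k * s * k⁻¹ * (k * s * k⁻¹) = k * (s * s) * k⁻¹ by group, h2, mul_one, mul_inv_cancel])
    (fun e => h1 (conj_eq_one_iff.mp e))
  obtain ⟨g, -, rfl⟩ := id hk
  have hadd : ∀ u v, lin g (u + v) = lin g u + lin g v := fun u v => (isIso_lin g).add u v
  have hrange : (Set.range fun v => s v + v) =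
      ⇑((lin g)⁻¹ : Perm V) '' (Set.range fun v => (lin g * s * (lin g)⁻¹) v + v) := by
    have e : ∀ v, (lin g * s * (lin g)⁻¹) (lin g v) + lin g v = lin g (s v + v) := fun v => by
      rw [hadd, Perm.mul_apply, Perm.mul_apply, Perm.inv_def, Equiv.symm_apply_apply]
    ext x
    constructor
    · rintro ⟨v, rfl⟩
      exact ⟨_, ⟨lin g v, rfl⟩, by show (lin g)⁻¹ _ = s v + v; beta_reduce; rw [e, Perm.inv_def, Equiv.symm_apply_apply]⟩
    · rintro ⟨_, ⟨v, rfl⟩, rfl⟩
      refine ⟨(lin g)⁻¹ v, (lin g).injective ?_⟩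
      rw [← e, Perm.inv_def, Equiv.apply_symm_apply, Equiv.apply_symm_apply]
  rw [hrange, Set.ncard_image_of_injective _ (Equiv.injective _), hje]
  have hp := invP_isE hjl
  have h := disp_ok hj
  simp only [dispB, Bool.and_eq_true, Nat.beq_eq, List.all_eq_true, Nat.blt_eq, List.any_eq_true, List.mem_range,
    Bool.not_eq_true', ← Bool.not_eq_true] at h
  obtain ⟨⟨⟨⟨hlen, hdd⟩, hwit⟩, hgen⟩, hclo⟩ := h
  set l := (dispL.getD j []).map fun e => e.1 with hl
  have hval : ∀ n, invP (linInvs.getD j 0) (vecN n) + vecN n = vecN (dispN (invL j) n) := fun n => by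
    rw [hp.apply_vecN, vecN_add]; rfl
  have hset : (Set.range fun v => invP (linInvs.getD j 0) v + v) = vecN '' ↑l.toFinset := by
    ext x
    simp only [List.coe_toFinset, Set.mem_image, Set.mem_setOf_eq]
    constructor
    · rintro ⟨v, rfl⟩
      have hlt : cdV v < 4096 := cdV_lt v
      have hsplit := Nat.eq_of_beq_eq_true (List.all_eq_true.mp halves_ok (cdV v) (List.mem_range.mpr hlt))
      obtain ⟨⟨a, hA, ea⟩, -⟩ := hgen (cdV v % 64) (by omega)
      obtain ⟨-, ⟨b, hB, eb⟩⟩ := hgen (cdV v / 64) (by omega)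
      obtain ⟨c, hC, ec⟩ := hclo a hA b hB
      refine ⟨c, hC, ?_⟩
      show _ = invP (linInvs.getD j 0) v + v
      rw [← vecN_cdV v, ← hsplit, ← vecN_add, hp.map_add, add_add_add_comm, hval, hval, ea, eb, vecN_add, ec]
    · rintro ⟨n, hn, rfl⟩
      obtain ⟨e, he, rfl⟩ := List.mem_map.mp hn
      exact ⟨vecN e.2, by show invP _ (vecN e.2) + vecN e.2 = _; rw [hval, (hwit e he).2]⟩
  rw [hset, Set.InjOn.ncard_image, Set.ncard_coe_finset]
  · rw [List.toFinset_card_of_nodup, hl, List.length_map, hlen]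
    refine List.nodup_iff_injective_getElem.mpr fun a b e => Fin.ext ?_
    have hla : a.val < 16 := by have := a.2; simp only [hl, List.length_map, hlen] at this; exact this
    have hlb : b.val < 16 := by have := b.2; simp only [hl, List.length_map, hlen] at this; exact this
    have e' : l.getD a.val 0 = l.getD b.val 0 := by
      rw [List.getD_eq_getElem _ _ a.2, List.getD_eq_getElem _ _ b.2]; exact e
    rcases lt_trichotomy a.val b.val with h | h | h
    · exact absurd e'.symm (hdd b.val hlb a.val h)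
    · exact h
    · exact absurd e' (hdd a.val hla b.val h)
  · intro a ha b hb e
    simp only [List.coe_toFinset, Set.mem_setOf_eq] at ha hb
    have hlt : ∀ a ∈ l, a < 4096 := fun a ha => by
      obtain ⟨e, he, rfl⟩ := List.mem_map.mp ha
      exact (hwit e he).1.1
    exact vecN_inj (hlt a ha) (hlt b hb) e

end CfsgLib.Fi24Chz
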