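/-
When the centralizer induces only the linear subgroup and the involution is weakly closed in the core, it is isolated.
-/
import Cfsg.Agent.Lib.Fi24Chz.Coord
import Cfsg.Agent.Lib.Fi24Chz.Sylow

set_option autoImplicit false
set_option maxRecDepth 30000
set_option maxHeartbeats 1000000
set_option linter.style.haveILetI false
set_option linter.unusedSectionVars false

namespace CfsgLib.Fi24Chz

open Matrix CfsgLib.G24 CfsgLib.SUSixSub Equiv CfsgLib.ExtraTwo CfsgLib.Fi24Q
open scoped commutatorElement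

attribute [local irreducible] maskA maskB gensA tauN orbA orbB

theorem hV_add_left (a b c : V) : hV (a + b) c = hV a c + hV b c := by
  simp only [hV, Cfsg.hermForm, Pi.add_apply, add_mul, Finset.sum_add_distrib]

theorem hV_add_right (a b c : V) : hV a (b + c) = hV a b + hV a c := by
  rw [← hV_swap (b + c) a, hV_add_left, cjK_add, hV_swap, hV_swap]

theorem sing_moved {s : Perm V} (hs : IsIso s) (h2 : s * s = 1) (v : V) : hV (s v + v) (s v + v) = 0 := by
  have e : hV (s v) v = hV v (s v) := by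
    conv_lhs => rw [← hs.form, ← Perm.mul_apply, h2]
    rfl
  rw [hV_add_left, hV_add_right, hV_add_right, hs.form, e]
  have k : ∀ a b : K, a + b + (b + a) = 0 := by decide
  exact k _ _

variable {G : Type*} [Group G] [Finite G] {z : G} {Q : Subgroup (Cz z)} [hQn : Q.Normal]

theorem pi_inv (D : Pre z Q) (a : Q) : D.pi a⁻¹ = D.pi a := by
  have h := D.pi_mul a⁻¹ a
  rw [inv_mul_cancel, D.pi_one] at h
  refine funext fun i => ?_
  have hi : D.pi a⁻¹ i + D.pi a i = 0 := (congrFun h i).symm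
  have k : ∀ x y : K, x + y = 0 → x = y := by decide
  exact k _ _ hi

/-- **The isolation.** -/
theorem isolated_of_linear (D : Pre z Q) (hw : ∀ (g : G) (a : Q), g * z * g⁻¹ = ((a : Cz z) : G) → g * z * g⁻¹ = z)
    (N0 : Subgroup G) (hQN : ∀ q : Q, ((q : Cz z) : G) ∈ N0) (hN0 : ∀ h : Cz z, (h : G) ∈ N0 → D.th h ∈ KL)
    {g : G} (hg : g ∈ N0) (hc : Commute (g * z * g⁻¹) z) : g * z * g⁻¹ = z := by
  classical
  haveI : Fact (Nat.Prime 2) := ⟨Nat.prime_two⟩
  have hzz : z * z = 1 := by rw [← pow_two, ← D.z2, pow_orderOf_eq_one]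
  have hz1 : z ≠ 1 := fun e => by
    have := D.z2
    rw [e, orderOf_one] at this
    norm_num at this
  by_contra hne
  -- the pulled back conjugate
  set y := g⁻¹ * z * g with hy
  have hyC : y ∈ Cz z := Subgroup.mem_centralizer_singleton_iff.mpr (by
    calc y * z = g⁻¹ * (z * (g * z * g⁻¹)) * g := by rw [hy]; group
      _ = g⁻¹ * ((g * z * g⁻¹) * z) * g := by rw [hc.eq]
      _ = z * y := by rw [hy]; group)
  set yc : Cz z := ⟨y, hyC⟩ with hyc
  have hyy : y * y = 1 := by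
    rw [hy, show g⁻¹ * z * g * (g⁻¹ * z * g) = g⁻¹ * (z * z) * g by group, hzz, mul_one, inv_mul_cancel]
  have hyN : y ∈ N0 := by
    refine mul_mem (mul_mem (inv_mem hg) ?_) hg
    have := hQN D.zq
    rwa [D.coe_zq] at this
  have hyQ : yc ∉ Q := fun hm => hne (by
    have h := hw g⁻¹ ⟨yc, hm⟩ (by rw [inv_inv])
    rw [inv_inv] at h
    calc g * z * g⁻¹ = g * (g⁻¹ * z * g) * g⁻¹ := by rw [h]
      _ = z := by group)
  set s := D.th yc with hs
  have hsKL : s ∈ KL := hN0 yc hyN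
  have hs2 : s * s = 1 := by
    rw [hs, ← map_mul, show yc * yc = 1 from Subtype.ext hyy, map_one]
  have hs1 : s ≠ 1 := fun e => hyQ ((D.th_ker yc).mp e)
  have hsiso : IsIso s := by
    obtain ⟨k, -, e⟩ := hsKL
    exact e ▸ isIso_lin k
  -- the moved space
  let dj : Q → Q := fun j => conjQ yc j * j⁻¹
  have hdj : ∀ j, D.pi (dj j) = s (D.pi j) + D.pi j := fun j => by
    rw [D.pi_mul, pi_inv, ← D.th_pi]
  let R : Subgroup Q :=
    { carrier := {c | D.pi c ∈ Set.range fun v => s v + v}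
      one_mem' := ⟨0, by
        show s 0 + 0 = D.pi 1
        have h := hsiso.add 0 0
        rw [add_zero, left_eq_add] at h
        rw [D.pi_one, h, add_zero]⟩
      mul_mem' := by
        rintro a b ⟨u, hu⟩ ⟨v, hv⟩
        refine ⟨u + v, ?_⟩
        show s (u + v) + (u + v) = D.pi (a * b)
        rw [D.pi_mul, ← hu, ← hv, hsiso.add, add_add_add_comm]
      inv_mem' := by
        rintro a ⟨u, hu⟩
        exact ⟨u, by show s u + u = D.pi a⁻¹; rw [pi_inv, ← hu]⟩ }
  have hR : ∀ c, c ∈ R → ∃ j, c = dj j ∨ c = dj j * D.zq := by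
    rintro c ⟨v, hv⟩
    obtain ⟨j, rfl⟩ := D.pi_surj v
    exact ⟨j, (D.pi_eq (a := dj j) (b := c)).mp (by rw [hdj]; exact hv)⟩
  have hzc : ∀ a : Q, a * D.zq = D.zq * a := fun a => (D.ext2.z_comm a).eq
  have cardR : Nat.card R = 32 := by
    let f : ↥R → (Set.range fun v => s v + v) := fun c => ⟨D.pi (c : Q), c.2⟩
    have hsurj : Function.Surjective f := fun ⟨w, v, hv⟩ => by
      obtain ⟨a, ha⟩ := D.pi_surj w
      exact ⟨⟨a, ⟨v, hv.trans ha.symm⟩⟩, Subtype.ext ha⟩
    choose sec hsec using hsurj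
    have hzR : D.zq ∈ R := ⟨0, by
      show s 0 + 0 = D.pi D.zq
      have h := hsiso.add 0 0
      rw [add_zero, left_eq_add] at h
      rw [(D.pi_ker D.zq).mpr (Or.inr rfl), h, add_zero]⟩
    let F : (Set.range fun v => s v + v) × Bool → ↥R := fun p => sec p.1 * (bif p.2 then ⟨D.zq, hzR⟩ else 1)
    have hF : Function.Bijective F := by
      have hpz : ∀ (a : Q) (b : Bool), D.pi (a * (bif b then D.zq else 1)) = D.pi a := fun a b => by
        cases b
        · simp
        · rw [cond_true, D.pi_mul, (D.pi_ker D.zq).mpr (Or.inr rfl), add_zero]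
      have hval : ∀ p, ((F p : ↥R) : Q) = (sec p.1 : Q) * (bif p.2 then D.zq else 1) := fun p => by
        obtain ⟨w, b⟩ := p
        cases b <;> rfl
      have hpf : ∀ p, f (F p) = p.1 := fun p => Subtype.ext (by
        show D.pi ((F p : ↥R) : Q) = _
        rw [hval, hpz]
        exact congrArg Subtype.val (hsec p.1))
      refine ⟨fun p q h => ?_, fun c => ?_⟩
      · have h1 : p.1 = q.1 := by rw [← hpf p, ← hpf q, h]
        obtain ⟨w, b⟩ := p
        obtain ⟨w', b'⟩ := q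
        obtain rfl : w = w' := h1
        have h2 := congrArg (fun c : ↥R => (c : Q)) h
        simp only [hval, mul_right_inj] at h2
        cases b <;> cases b' <;> first | rfl | exact absurd h2 D.ext2.ne | exact absurd h2.symm D.ext2.ne
      · rcases (D.pi_eq (a := (sec (f c) : Q)) (b := (c : Q))).mp (congrArg Subtype.val (hsec (f c))) with e | e
        · exact ⟨(f c, false), Subtype.ext (by rw [hval]; simp [e])⟩
        · exact ⟨(f c, true), Subtype.ext (by rw [hval]; simp [e])⟩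
    rw [← Nat.card_eq_of_bijective F hF, Nat.card_prod, Nat.card_coe_set_eq, disp_card hsKL hs2 hs1,
      Nat.card_eq_fintype_card (α := Bool), Fintype.card_bool]
  -- the centraliser in the core
  let U : Subgroup Q :=
    { carrier := {u | Commute ((u : Cz z) : G) y}
      one_mem' := Commute.one_left y
      mul_mem' := fun ha hb => ha.mul_left hb
      inv_mem' := fun ha => ha.inv_left }
  have memU : ∀ {u : Q}, u ∈ U ↔ conjQ yc u = u := fun {u} => by
    constructor
    · intro h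
      exact Subtype.ext (Subtype.ext (by
        show y * ((u : Cz z) : G) * y⁻¹ = _
        rw [← (h : Commute ((u : Cz z) : G) y).eq, mul_inv_cancel_right]))
    · intro h
      have h' : y * ((u : Cz z) : G) * y⁻¹ = ((u : Cz z) : G) := congrArg (fun a : Q => ((a : Cz z) : G)) h
      exact (mul_inv_eq_iff_eq_mul.mp h').symm
  have cjm : ∀ a b : Q, conjQ yc (a * b) = conjQ yc a * conjQ yc b := fun a b => Subtype.ext (by
    show yc * ((a : Cz z) * b) * yc⁻¹ = yc * a * yc⁻¹ * (yc * b * yc⁻¹)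
    group)
  have cji : ∀ a : Q, conjQ yc a⁻¹ = (conjQ yc a)⁻¹ := fun a => Subtype.ext (by
    show yc * (a : Cz z)⁻¹ * yc⁻¹ = (yc * a * yc⁻¹)⁻¹
    group)
  have cjj : ∀ a : Q, conjQ yc (conjQ yc a) = a := fun a => Subtype.ext (by
    have hy2 : yc * yc = 1 := Subtype.ext hyy
    show yc * (yc * a * yc⁻¹) * yc⁻¹ = a
    rw [show yc * (yc * (a : Cz z) * yc⁻¹) * yc⁻¹ = (yc * yc) * a * (yc * yc)⁻¹ by group, hy2]
    simp)
  have cjz : conjQ yc D.zq = D.zq := Subtype.ext (Subtype.ext (by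
    show y * ((D.zq : Cz z) : G) * y⁻¹ = _
    rw [D.coe_zq, Subgroup.mem_centralizer_singleton_iff.mp hyC, mul_inv_cancel_right]))
  have dj_sq : ∀ j, dj j * dj j = 1 := fun j => (D.sq_iff _).mpr (by rw [hdj]; exact sing_moved hsiso hs2 _)
  have djU : ∀ j, dj j ∈ U := fun j => memU.mpr (by
    show conjQ yc (conjQ yc j * j⁻¹) = _
    rw [cjm, cjj, cji, ← inv_eq_of_mul_eq_one_right (dj_sq j)]
    simp [dj])
  have hzU : D.zq ∈ U := memU.mpr cjz
  have hRU : R ≤ U := fun c hc => by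
    obtain ⟨j, rfl | rfl⟩ := hR c hc
    exacts [djU j, mul_mem (djU j) hzU]
  have djC : ∀ j, ∀ u ∈ U, u * dj j = dj j * u := fun j u hu => by
    have hu' := memU.mp hu
    have h2 : u * dj j * u⁻¹ = conjQ yc (u * j * u⁻¹) * (u * j * u⁻¹)⁻¹ := by
      rw [cjm, cjm, cji, hu']
      show u * (conjQ yc j * j⁻¹) * u⁻¹ = _
      group
    refine mul_inv_eq_iff_eq_mul.mp (h2.trans ?_)
    rcases D.ext2.comm_cases u j with e | e
    · rw [show u * j * u⁻¹ = ⁅u, j⁆ * j by rw [commutatorElement_def]; group, e, one_mul]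
    · rw [show u * j * u⁻¹ = ⁅u, j⁆ * j by rw [commutatorElement_def]; group, e, cjm, cjz]
      show D.zq * conjQ yc j * (D.zq * j)⁻¹ = _
      rw [← hzc, _root_.mul_inv_rev, mul_assoc (conjQ yc j), ← mul_assoc D.zq, ← hzc, mul_inv_cancel_right]
  have hRC : ∀ c ∈ R, ∀ u ∈ U, u * c = c * u := fun c hc u hu => by
    obtain ⟨j, rfl | rfl⟩ := hR c hc
    · exact djC j u hu
    · rw [← mul_assoc, djC j u hu, mul_assoc, hzc u, ← mul_assoc]
  have cardU : 8192 ≤ 32 * Nat.card U := by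
    let q : Q ⧸ U → ↥R := Quotient.lift (fun j => (⟨dj j, ⟨D.pi j, (hdj j).symm⟩⟩ : ↥R)) fun a b h => Subtype.ext (by
      replace h : a⁻¹ * b ∈ U := QuotientGroup.leftRel_apply.mp h
      have hb : b = a * (a⁻¹ * b) := (mul_inv_cancel_left a b).symm
      show dj a = dj b
      rw [hb]
      show conjQ yc a * a⁻¹ = conjQ yc (a * (a⁻¹ * b)) * (a * (a⁻¹ * b))⁻¹
      rw [cjm, memU.mp h]
      group)
    have hq : Function.Injective q := by
      rintro ⟨a⟩ ⟨b⟩ h
      have h' : conjQ yc a * a⁻¹ = conjQ yc b * b⁻¹ := congrArg Subtype.val h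
      refine QuotientGroup.eq.mpr (memU.mpr ?_)
      rw [cjm, cji]
      calc (conjQ yc a)⁻¹ * conjQ yc b = (conjQ yc a)⁻¹ * (conjQ yc b * b⁻¹) * b := by group
        _ = a⁻¹ * b := by rw [← h']; group
    have h1 := Nat.card_le_card_of_injective q hq
    rw [cardR] at h1
    rw [← D.card_Q, ← U.card_mul_index, mul_comm 32]
    exact Nat.mul_le_mul_left _ h1
  -- transport by the conjugation
  have hmap : ∀ u : U, g * (((u : Q) : Cz z) : G) * g⁻¹ ∈ Cz z := fun u => Subgroup.mem_centralizer_singleton_iff.mpr (by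
    have h : (((u : Q) : Cz z) : G) * y = y * ((u : Q) : Cz z) := (u.2 : Commute _ y).eq
    calc g * (((u : Q) : Cz z) : G) * g⁻¹ * z = g * ((((u : Q) : Cz z) : G) * y) * g⁻¹ := by rw [hy]; group
      _ = g * (y * ((u : Q) : Cz z)) * g⁻¹ := by rw [h]
      _ = z * (g * (((u : Q) : Cz z) : G) * g⁻¹) := by rw [hy]; group)
  let φ : ↥U →* Cz z := MonoidHom.mk' (fun u => ⟨_, hmap u⟩) fun a b => Subtype.ext (by
    simp only [Subgroup.coe_mul]; group)
  let ψ : ↥U →* Perm V := D.th.comp φ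
  have hψ : ψ.range ≤ KL := by
    rintro _ ⟨u, rfl⟩
    exact hN0 _ (mul_mem (mul_mem hg (hQN u.1)) (inv_mem hg))
  have hψ2 : IsPGroup 2 ↥ψ.range :=
    (D.ext2.isPGroup.to_subgroup U).of_surjective ψ.rangeRestrict ψ.rangeRestrict_surjective
  have memW : ∀ {u : U}, u ∈ ψ.ker ↔ φ u ∈ Q := fun {u} => by
    rw [MonoidHom.mem_ker]
    exact D.th_ker _
  have hzW : ∀ u : U, u ∈ ψ.ker → (u : Q) ≠ D.zq := fun u hu e => hne (hw g ⟨φ u, memW.mp hu⟩ (by
    show g * z * g⁻¹ = g * (((u : Q) : Cz z) : G) * g⁻¹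
    rw [e, D.coe_zq]))
  have hWC : ∀ w : U, w ∈ ψ.ker → ∀ u : U, u * w = w * u := fun w hw' u => by
    rcases D.ext2.comm_cases (u : Q) (w : Q) with e | e
    · exact Subtype.ext (commutatorElement_eq_one_iff_mul_comm.mp e)
    · exact absurd (show ((⁅u, w⁆ : ↥U) : Q) = D.zq from e)
        (hzW _ (by
          rw [commutatorElement_def]
          exact mul_mem ((MonoidHom.normal_ker ψ).conj_mem w hw' u) (inv_mem hw')))
  -- the kernel inside the moved space
  have hkey : ∀ w : U, w ∈ ψ.ker → (w : Q) ∈ R → w ≠ 1 →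
      (∀ j, dj j ≠ w) ∧ ∃ j, dj j = (w : Q) * D.zq := by
    intro w hwk hwR hw1
    have hA : ∀ j, dj j ≠ w := by
      intro j hj
      have e1 : y * ((j : Cz z) : G) * y⁻¹ * ((j : Cz z) : G)⁻¹ = (((w : Q) : Cz z) : G) :=
        congrArg (fun a : Q => ((a : Cz z) : G)) hj
      have yi : y⁻¹ = y := inv_eq_of_mul_eq_one_right hyy
      have e2 : ((j : Cz z) : G) * y * ((j : Cz z) : G)⁻¹ = y * (((w : Q) : Cz z) : G) := by
        rw [← e1, show y * (y * ((j : Cz z) : G) * y⁻¹ * ((j : Cz z) : G)⁻¹) =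
          (y * y) * ((j : Cz z) : G) * y⁻¹ * ((j : Cz z) : G)⁻¹ by group, hyy, one_mul, yi]
      have hp : z * g * (((w : Q) : Cz z) : G) * g⁻¹ = z * ((φ w : Cz z) : G) := by
        show _ = z * (g * (((w : Q) : Cz z) : G) * g⁻¹)
        group
      have h := hw (g * ((j : Cz z) : G) * g⁻¹) (D.zq * ⟨φ w, memW.mp hwk⟩) (by
        show _ = ((D.zq : Cz z) : G) * ((φ w : Cz z) : G)
        rw [D.coe_zq, ← hp]
        calc g * ((j : Cz z) : G) * g⁻¹ * z * (g * ((j : Cz z) : G) * g⁻¹)⁻¹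
            = g * (((j : Cz z) : G) * y * ((j : Cz z) : G)⁻¹) * g⁻¹ := by rw [hy]; group
          _ = g * (y * (((w : Q) : Cz z) : G)) * g⁻¹ := by rw [e2]
          _ = z * g * (((w : Q) : Cz z) : G) * g⁻¹ := by rw [hy]; group)
      apply hw1
      refine Subtype.ext (Subtype.ext (Subtype.ext (?_ : (((w : Q) : Cz z) : G) = 1)))
      have h' : g * (y * (((w : Q) : Cz z) : G)) * g⁻¹ = z := by
        rw [← e2]
        calc g * (((j : Cz z) : G) * y * ((j : Cz z) : G)⁻¹) * g⁻¹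
            = g * ((j : Cz z) : G) * g⁻¹ * z * (g * ((j : Cz z) : G) * g⁻¹)⁻¹ := by rw [hy]; group
          _ = z := h
      calc (((w : Q) : Cz z) : G) = y⁻¹ * g⁻¹ * (g * (y * (((w : Q) : Cz z) : G)) * g⁻¹) * g := by group
        _ = 1 := by rw [h', hy]; group
    obtain ⟨j, e | e⟩ := hR _ hwR
    · exact absurd e.symm (hA j)
    · exact ⟨hA, j, by rw [e, mul_assoc, D.ext2.zz, mul_one]⟩
  let W1 : Subgroup U := ψ.ker ⊓ R.subgroupOf U
  have hW1 : Nat.card W1 ≤ 4 := by
    by_contra hbig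
    have hpick : ∀ S : Finset U, S.card ≤ 4 → ∃ w ∈ W1, w ∉ S := fun S hS => by
      by_contra hno
      push Not at hno
      have : Nat.card W1 ≤ S.card := by
        rw [← Nat.card_eq_finsetCard]
        exact Nat.card_le_card_of_injective (fun e => ⟨e.1, hno e e.2⟩) fun a b h => Subtype.ext (congrArg Subtype.val h :)
      omega
    obtain ⟨w1, h1, h1'⟩ := hpick {1} (by simp)
    obtain ⟨w2, h2, h2'⟩ := hpick {1, w1, w1⁻¹} ((Finset.card_le_three).trans (by norm_num))
    obtain ⟨w3, h3, h3'⟩ := hpick {1, w1, w1⁻¹, w2⁻¹} Finset.card_le_four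
    simp only [Finset.mem_insert, Finset.mem_singleton, not_or] at h1' h2' h3'
    obtain ⟨j1, e1⟩ := (hkey w1 h1.1 (Subgroup.mem_subgroupOf.mp h1.2) h1').2
    have hno : ∀ w : U, w ∈ W1 → w ≠ 1 → w1 * w ≠ 1 → ¬ j1 * (w : Q) = (w : Q) * j1 := by
      intro w hw' hwne hprod hcomm
      obtain ⟨j, ej⟩ := (hkey w hw'.1 (Subgroup.mem_subgroupOf.mp hw'.2) hwne).2
      refine (hkey (w1 * w) (mul_mem h1.1 hw'.1) (Subgroup.mem_subgroupOf.mp (mul_mem h1.2 hw'.2)) hprod).1 (j1 * j) ?_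
      have hc2 : j1 * dj j = dj j * j1 := by
        rw [ej, ← mul_assoc, hcomm, mul_assoc, hzc j1, ← mul_assoc]
      calc dj (j1 * j) = conjQ yc j1 * (conjQ yc j * j⁻¹) * j1⁻¹ := by
            show conjQ yc (j1 * j) * (j1 * j)⁻¹ = _
            rw [cjm]; group
        _ = conjQ yc j1 * j1⁻¹ * (j1 * dj j) * j1⁻¹ := by simp only [dj]; group
        _ = dj j1 * dj j := by rw [hc2]; simp only [dj]; group
        _ = (w1 : Q) * (w : Q) * (D.zq * D.zq) := by
            rw [e1, ej, ← mul_assoc, mul_assoc (w1 : Q), ← hzc (w : Q)]; group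
        _ = ((w1 * w : U) : Q) := by rw [D.ext2.zz, mul_one]; rfl
    have inv1 : ∀ w : U, w ≠ w1⁻¹ → w1 * w ≠ 1 := fun w hw' e => hw' (eq_inv_of_mul_eq_one_right e)
    have a2 := hno w2 h2 h2'.1 (inv1 w2 h2'.2.2)
    have a3 := hno w3 h3 h3'.1 (inv1 w3 h3'.2.2.1)
    by_cases h23 : w1 * (w2 * w3) = 1
    · -- a further member
      obtain ⟨w5, h5, h5'⟩ := hpick {1, w1⁻¹, w2⁻¹, w3} Finset.card_le_four
      simp only [Finset.mem_insert, Finset.mem_singleton, not_or] at h5'
      have a5 := hno w5 h5 h5'.1 (inv1 w5 h5'.2.1)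
      refine hno (w2 * w5) (mul_mem h2 h5) (fun e => h5'.2.2.1 (eq_inv_of_mul_eq_one_right e)) (fun e => h5'.2.2.2 ?_) ?_
      · exact mul_left_cancel (a := w1 * w2) (by rw [mul_assoc, mul_assoc, e, h23])
      · exact ((D.ext2.mul_comm_iff (g₁ := (w2 : Q)) (g₂ := (w5 : Q)) (a := j1)).mpr
          (iff_of_false (fun e => a2 e.symm) fun e => a5 e.symm)).symm
    · refine hno (w2 * w3) (mul_mem h2 h3) (fun e => h3'.2.2.2 (eq_inv_of_mul_eq_one_right e)) h23 ?_
      exact ((D.ext2.mul_comm_iff (g₁ := (w2 : Q)) (g₂ := (w3 : Q)) (a := j1)).mpr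
        (iff_of_false (fun e => a2 e.symm) fun e => a3 e.symm)).symm
  -- the images
  let C0 : Subgroup U := (Subgroup.centralizer (U : Set Q)).subgroupOf U
  have hRC0 : R.subgroupOf U ≤ C0 := fun c hc => Subgroup.mem_subgroupOf.mpr (Subgroup.mem_centralizer_iff.mpr
    fun u hu => hRC _ (Subgroup.mem_subgroupOf.mp hc) u hu)
  have hWC0 : ψ.ker ≤ C0 := fun w hw' => Subgroup.mem_subgroupOf.mpr (Subgroup.mem_centralizer_iff.mpr
    fun u hu => congrArg Subtype.val (hWC w hw' ⟨u, hu⟩))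
  have hC0 : Nat.card U * Nat.card C0 ≤ 16384 := by
    have h1 := D.ext2.card_mul_card_centralizer (A := U) hzU
    rw [D.card_Q] at h1
    refine le_trans (Nat.mul_le_mul_left _ ?_) h1.le
    exact Nat.card_le_card_of_injective (fun c : C0 => (⟨((c : U) : Q), Subgroup.mem_subgroupOf.mp c.2⟩ :
      ↥(Subgroup.centralizer (U : Set Q)))) fun a b h =>
      Subtype.ext (Subtype.ext (congrArg (fun x : ↥(Subgroup.centralizer (U : Set Q)) => (x : Q)) h))
  have split : ∀ X : Subgroup U, Nat.card ↥(X ⊓ ψ.ker) * Nat.card ↥(X.map ψ) = Nat.card X := fun X => by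
    have h := (ψ.comp X.subtype).ker.card_mul_index
    rw [Subgroup.index_ker, MonoidHom.range_comp, Subgroup.range_subtype] at h
    rw [← h]
    congr 1
    exact Nat.card_congr ⟨fun x => ⟨⟨x.1, x.2.1⟩, x.2.2⟩, fun x => ⟨x.1.1, x.1.2, x.2⟩, fun _ => rfl, fun _ => rfl⟩
  have cR : Nat.card ↥(R.subgroupOf U) = 32 := by
    rw [Nat.card_congr (Subgroup.subgroupOfEquivOfLe hRU).toEquiv, cardR]
  have hE : 8 ≤ Nat.card ↥((R.subgroupOf U).map ψ) := by
    have h := split (R.subgroupOf U)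
    rw [cR, inf_comm] at h
    have : Nat.card W1 * Nat.card ↥((R.subgroupOf U).map ψ) = 32 := h
    have := Nat.mul_le_mul_right (Nat.card ↥((R.subgroupOf U).map ψ)) hW1
    omega
  have hP : 32 ≤ Nat.card ψ.range := by
    have h := split ⊤
    rw [top_inf_eq, ← MonoidHom.range_eq_map, Subgroup.card_top] at h
    have h2 := split C0
    rw [inf_eq_right.mpr hWC0] at h2
    have h3 : 8 * Nat.card ψ.ker ≤ Nat.card C0 := by
      rw [← h2, mul_comm]
      exact Nat.mul_le_mul_left _ (hE.trans (Subgroup.card_le_of_le (Subgroup.map_mono hRC0)))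
    have hu : 256 ≤ Nat.card U := by omega
    by_contra hlt
    have h4 : 8 * (Nat.card U * Nat.card U) ≤ 16384 * 31 := by
      calc 8 * (Nat.card U * Nat.card U) = 8 * Nat.card ψ.ker * Nat.card U * Nat.card ψ.range := by
            conv_lhs => arg 2; arg 2; rw [← h]
            ring
        _ ≤ Nat.card C0 * Nat.card U * 31 := Nat.mul_le_mul (Nat.mul_le_mul_right _ h3) (by omega)
        _ ≤ 16384 * 31 := Nat.mul_le_mul_right _ (by rw [mul_comm]; exact hC0)
    have := Nat.mul_le_mul hu hu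
    omega
  refine no_large_centre hψ hψ2 (E := (R.subgroupOf U).map ψ) ?_ ?_ ?_ hE hP
  · rintro _ ⟨c, -, rfl⟩
    exact ⟨c, rfl⟩
  · rintro _ ⟨c, hc, rfl⟩ _ ⟨u, rfl⟩
    rw [← map_mul, ← map_mul]
    exact congrArg ψ (Subtype.ext (hRC _ (Subgroup.mem_subgroupOf.mp hc) u u.2).symm)
  · rintro _ ⟨c, hc, rfl⟩
    rw [← map_mul]
    obtain ⟨j, e | e⟩ := hR _ (Subgroup.mem_subgroupOf.mp hc)
    · rw [show c * c = 1 from Subtype.ext (by rw [Subgroup.coe_mul, e, dj_sq]; rfl), map_one]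
    · rw [show c * c = 1 from Subtype.ext (by
        rw [Subgroup.coe_mul, e, (D.ext2.z_comm (dj j)).symm.mul_mul_mul_comm, dj_sq, D.ext2.zz, mul_one]; rfl),
        map_one]

end CfsgLib.Fi24Chz
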