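/-
The parity characters of the centralizer extend to the group; a weakly closed involution is isolated.
-/
import Cfsg.Agent.Lib.Fi24Chz.Base
import Cfsg.Agent.Lib.U6Chz.Aut.Transfer

set_option autoImplicit false
set_option maxRecDepth 30000
set_option linter.style.haveILetI false
set_option linter.unusedSectionVars false

namespace CfsgLib.Fi24Chz

open Matrix CfsgLib.G24 CfsgLib.SUSixSub Equiv CfsgLib.ExtraTwo CfsgLib.Fi24Q CfsgLargeExtra

attribute [local irreducible] maskA maskB gensA tauN orbA orbB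

theorem cos_unique {k l : Perm V} (hk : k ∈ KL) (hl : l ∈ KL) {a b c d : Bool} (h : k * cosR a b = l * cosR c d) :
    a = c ∧ b = d := by
  have h1 : l⁻¹ * k = cosR (Bool.xor c a) (Bool.xor d b) := by
    rw [← cosR_mul]
    calc l⁻¹ * k = l⁻¹ * (k * cosR a b) * (cosR a b)⁻¹ := by group
      _ = cosR c d * cosR a b := by rw [h, cosR_inv]; group
  obtain ⟨h2, h3⟩ := cosR_out (h1 ▸ mul_mem (inv_mem hl) hk)
  constructor
  · revert h2; cases a <;> cases c <;> simp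
  · revert h3; cases b <;> cases d <;> simp

/-- A parity of the cosets. -/
noncomputable def Par (w : Bool) : Subgroup (Perm V) where
  carrier := {p | ∃ k ∈ KL, ∃ a b, p = k * cosR a b ∧ (bif w then b else a) = false}
  one_mem' := ⟨1, one_mem _, false, false, by simp [cosR], by cases w <;> rfl⟩
  mul_mem' := by
    rintro _ _ ⟨k, hk, a, b, rfl, h⟩ ⟨l, hl, c, d, rfl, h'⟩
    refine ⟨k * (cosR a b * l * (cosR a b)⁻¹), mul_mem hk (cosR_KL a b hl), Bool.xor a c, Bool.xor b d,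
      by rw [← cosR_mul]; group, ?_⟩
    cases w <;> simp_all
  inv_mem' := by
    rintro _ ⟨k, hk, a, b, rfl, h⟩
    refine ⟨cosR a b * k⁻¹ * (cosR a b)⁻¹, cosR_KL a b (inv_mem hk), a, b, ?_, h⟩
    rw [_root_.mul_inv_rev, cosR_inv, mul_assoc (cosR a b * k⁻¹), cosR_mul]
    simp [cosR]

theorem KL_le_Par (w : Bool) : KL ≤ Par w := fun k hk =>
  ⟨k, hk, false, false, by simp [cosR], by cases w <;> rfl⟩

theorem Par_both {p : Perm V} (h1 : p ∈ Par true) (h2 : p ∈ Par false) : p ∈ KL := by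
  obtain ⟨k, hk, a, b, rfl, hb⟩ := h1
  obtain ⟨l, hl, c, d, e, hc⟩ := h2
  obtain ⟨rfl, rfl⟩ := cos_unique hk hl e
  simp only [cond_true] at hb
  simp only [cond_false] at hc
  subst hb hc
  simpa [cosR] using hk

theorem Par_mul_out {w : Bool} {p q : Perm V} (hp : p ∈ KF) (hq : q ∈ KF) (hp' : p ∉ Par w) (hq' : q ∉ Par w) :
    p * q ∈ Par w := by
  obtain ⟨k, hk, a, b, rfl⟩ := hp
  obtain ⟨l, hl, c, d, rfl⟩ := hq
  refine ⟨k * (cosR a b * l * (cosR a b)⁻¹), mul_mem hk (cosR_KL a b hl), Bool.xor a c, Bool.xor b d,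
    by rw [← cosR_mul]; group, ?_⟩
  have h1 : (bif w then b else a) = true := by
    by_contra h
    exact hp' ⟨k, hk, a, b, rfl, by simpa using h⟩
  have h2 : (bif w then d else c) = true := by
    by_contra h
    exact hq' ⟨l, hl, c, d, rfl, by simpa using h⟩
  cases w <;> simp_all

variable {G : Type*} [Group G] [Finite G] {z : G} {Q : Subgroup (Cz z)} [hQn : Q.Normal]

theorem es_map (D : Pre z Q) (hF : Cfsg.generalizedFittingSubgroup (Cz z) = Q) (hE : Cfsg.IsExtraspecial 2 Q) :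
    ES (Q.map (Cz z).subtype) z := by
  have hEG : Cfsg.IsExtraspecial 2 (Q.map (Cz z).subtype) :=
    Fi24Three.isExtraspecial_equiv (Q.equivMapOfInjective _ (Cz z).subtype_injective) hE
  exact (ES.of_fitting z D.z2 (C := Cz z) rfl (Q.map (Cz z).subtype) (by rw [hF]) hEG).1

/-- A parity extends to a subgroup of index two. -/
theorem exists_G0 (D : Pre z Q) (hrng : D.th.range ≤ KF) (hF : Cfsg.generalizedFittingSubgroup (Cz z) = Q)
    (hE : Cfsg.IsExtraspecial 2 Q) (w : Bool) {c0 : Cz z} (hc0 : D.th c0 ∉ Par w)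
    (hgood : ∀ (x : G) (a : Q), x * z * x⁻¹ = ((a : Cz z) : G) → x * z * x⁻¹ ≠ z → ∀ e : Q,
      (e : Cz z) * a = (a : Cz z) * e → ∀ hm : x⁻¹ * ((e : Cz z) : G) * x ∈ Cz z, D.th ⟨_, hm⟩ ∈ Par w) :
    ∃ G0 : Subgroup G, G0.index = 2 ∧ ∀ c : Cz z, (c : G) ∈ G0 ↔ D.th c ∈ Par w := by
  have hes := es_map D hF hE
  have hK : ((Par w).comap D.th).index = 2 := Subgroup.index_eq_two_iff.mpr ⟨c0, fun b => by
    rw [Subgroup.mem_comap, Subgroup.mem_comap, map_mul]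
    by_cases hb : D.th b ∈ Par w
    · refine Or.inr ⟨hb, fun h => hc0 ?_⟩
      simpa using mul_mem (inv_mem hb) h
    · exact Or.inl ⟨Par_mul_out (hrng ⟨b, rfl⟩) (hrng ⟨c0, rfl⟩) hb hc0, hb⟩⟩
  have hcent : Subgroup.centralizer ((Q.map (Cz z).subtype : Subgroup G) : Set G) ≤ Q.map (Cz z).subtype := by
    intro c hc
    rcases hes.cen c fun q hq => (Subgroup.mem_centralizer_iff.mp hc q hq).symm with e | e <;> rw [e]
    exacts [one_mem _, hes.mem]
  obtain ⟨G0, hi, hG0⟩ := CfsgLib.U6Chz.Aut.exists_index_two (E := Q.map (Cz z).subtype) D.z2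
    (Subgroup.map_subtype_le Q) hes.mem
    (fun g hg e he => by
      obtain ⟨q, hq, rfl⟩ := he
      exact ⟨⟨g, hg⟩ * q * ⟨g, hg⟩⁻¹, hQn.conj_mem q hq _, rfl⟩)
    (Fi24Three.isExtraspecial_equiv (Q.equivMapOfInjective _ (Cz z).subtype_injective) hE) hcent (k := 13)
    (by rw [Subgroup.card_map_of_injective (Cz z).subtype_injective, D.card_Q]; norm_num) (by norm_num)
    ((Par w).comap D.th) hK (fun x hx hne e he hc hm => by
      obtain ⟨a, ha, ea⟩ := hx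
      obtain ⟨q, hq, rfl⟩ := he
      refine hgood x ⟨a, ha⟩ ea.symm hne ⟨q, hq⟩ (Subtype.ext ?_) hm
      rw [Subgroup.coe_mul, Subgroup.coe_mul]
      show (q : G) * (a : G) = (a : G) * (q : G)
      rw [show (a : G) = x * z * x⁻¹ from ea]
      exact hc)
  exact ⟨G0, hi, fun c => (hG0 c c.2).trans Subgroup.mem_comap⟩

/-- **A weakly closed involution is isolated.** -/
theorem isolated_of_weak (D : Pre z Q) (hrng : D.th.range ≤ KF) (hF : Cfsg.generalizedFittingSubgroup (Cz z) = Q)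
    (hE : Cfsg.IsExtraspecial 2 Q)
    (hw : ∀ (g : G) (a : Q), g * z * g⁻¹ = ((a : Cz z) : G) → g * z * g⁻¹ = z)
    {g : G} (hc : Commute (g * z * g⁻¹) z) : g * z * g⁻¹ = z := by
  classical
  have ext : ∀ w (c0 : Cz z), D.th c0 ∉ Par w → ∃ G0 : Subgroup G, G0.index = 2 ∧
      ∀ c : Cz z, (c : G) ∈ G0 ↔ D.th c ∈ Par w := fun w c0 hc0 =>
    exists_G0 D hrng hF hE w hc0 fun x a ha hne => absurd (hw x a ha) hne
  have step : ∀ (G0 : Subgroup G), G0.index = 2 → ∀ (w : Bool), (∀ c : Cz z, (c : G) ∈ G0 ↔ D.th c ∈ Par w) →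
      ∀ c0 : Cz z, D.th c0 ∉ Par w → ∀ g : G, g ∈ G0 ∨ g * (c0 : G) ∈ G0 := fun G0 hi w hG0 c0 hc0 g => by
    by_cases h : g ∈ G0
    · exact Or.inl h
    · exact Or.inr ((Subgroup.mul_mem_iff_of_index_two hi).mpr (iff_of_false h fun h' => hc0 ((hG0 c0).mp h')))
  -- the subgroup inducing the linear maps only
  obtain ⟨Gb, hGb, hmovb⟩ : ∃ Gb : Subgroup G, (∀ c : Cz z, (c : G) ∈ Gb ↔ D.th c ∈ Par true) ∧
      ∀ g : G, g ∈ Gb ∨ ∃ c0 : Cz z, g * (c0 : G) ∈ Gb := by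
    by_cases h : ∃ c0, D.th c0 ∉ Par true
    · obtain ⟨c0, hc0⟩ := h
      obtain ⟨G0, hi, hG0⟩ := ext true c0 hc0
      exact ⟨G0, hG0, fun g => (step G0 hi true hG0 c0 hc0 g).imp_right fun h => ⟨c0, h⟩⟩
    · push Not at h
      exact ⟨⊤, fun c => iff_of_true (Subgroup.mem_top _) (h c), fun g => Or.inl (Subgroup.mem_top _)⟩
  obtain ⟨Ga, hGa, hmova⟩ : ∃ Ga : Subgroup G, (∀ c : Cz z, D.th c ∈ Par true → ((c : G) ∈ Ga ↔ D.th c ∈ Par false)) ∧
      ∀ g : G, g ∈ Ga ∨ ∃ c0 : Cz z, D.th c0 ∈ Par true ∧ g * (c0 : G) ∈ Ga := by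
    by_cases h : ∃ c0, D.th c0 ∈ Par true ∧ D.th c0 ∉ Par false
    · obtain ⟨c0, hb, hc0⟩ := h
      obtain ⟨G0, hi, hG0⟩ := ext false c0 hc0
      exact ⟨G0, fun c _ => hG0 c, fun g => (step G0 hi false hG0 c0 hc0 g).imp_right fun h => ⟨c0, hb, h⟩⟩
    · push Not at h
      exact ⟨⊤, fun c hc => iff_of_true (Subgroup.mem_top _) (h c hc), fun g => Or.inl (Subgroup.mem_top _)⟩
  obtain ⟨c, hc'⟩ : ∃ c : Cz z, g * (c : G) ∈ Gb ⊓ Ga := by
    obtain ⟨c1, h1⟩ : ∃ c1 : Cz z, g * (c1 : G) ∈ Gb := (hmovb g).elim (fun h => ⟨1, by simpa using h⟩) id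
    rcases hmova (g * (c1 : G)) with h | ⟨c2, hb, h⟩
    · exact ⟨c1, h1, h⟩
    · exact ⟨c1 * c2, by rw [Subgroup.coe_mul, ← mul_assoc]; exact mul_mem h1 ((hGb c2).mpr hb),
        by rw [Subgroup.coe_mul, ← mul_assoc]; exact h⟩
  have hconj : g * (c : G) * z * (g * (c : G))⁻¹ = g * z * g⁻¹ := by
    have h : (c : G) * z = z * c := Subgroup.mem_centralizer_singleton_iff.mp c.2
    calc g * (c : G) * z * (g * (c : G))⁻¹ = g * ((c : G) * z * (c : G)⁻¹) * g⁻¹ := by group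
      _ = g * z * g⁻¹ := by rw [h, mul_inv_cancel_right]
  have hN0 : ∀ h : Cz z, (h : G) ∈ Gb ⊓ Ga → D.th h ∈ KL := fun h hh =>
    Par_both ((hGb h).mp hh.1) ((hGa h ((hGb h).mp hh.1)).mp hh.2)
  have hQN : ∀ q : Q, ((q : Cz z) : G) ∈ Gb ⊓ Ga := fun q => by
    have h1 : D.th (q : Cz z) = 1 := (D.th_ker _).mpr q.2
    have h2 : D.th (q : Cz z) ∈ Par true := by rw [h1]; exact one_mem _
    exact ⟨(hGb _).mpr h2, (hGa _ h2).mpr (by rw [h1]; exact one_mem _)⟩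
  have := isolated_of_linear D hw (Gb ⊓ Ga) hQN hN0 hc' (hconj.symm ▸ hc)
  rwa [hconj] at this

end CfsgLib.Fi24Chz
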