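/-
Two-subgroups normalised by the stabilisers in the full group of semilinear maps.
-/
import Cfsg.Agent.Lib.Fi24Q.OddOrbit
import Cfsg.Agent.Lib.Fi24Q.SixSets
import Cfsg.Agent.Lib.Fi24Chz.Extend

set_option autoImplicit false
set_option maxRecDepth 30000
set_option linter.style.haveILetI false
set_option linter.unusedSectionVars false

namespace CfsgLib.Fi24Chz

open Matrix CfsgLib.G24 CfsgLib.SUSixSub Equiv CfsgLib.Fi24Q

attribute [local irreducible] maskA maskB maskC orbA orbB orbC gensA tGens basisC basisCInv xGens xPerm twTau twSig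
  sixImg sixL sixM tauN

/-- The order of the full group. -/
theorem card_KF : Nat.card KF = 39191040 := by
  let f : ↥KL × Bool × Bool → ↥KF := fun p => ⟨(p.1 : Perm V) * cosR p.2.1 p.2.2, p.1, p.1.2, p.2.1, p.2.2, rfl⟩
  have hf : Function.Bijective f := by
    refine ⟨fun p q h => ?_, fun ⟨_, k, hk, a, b, rfl⟩ => ⟨(⟨k, hk⟩, a, b), rfl⟩⟩
    have h' : (p.1 : Perm V) * cosR p.2.1 p.2.2 = q.1 * cosR q.2.1 q.2.2 := congrArg Subtype.val h
    obtain ⟨h1, h2⟩ := cos_unique p.1.2 q.1.2 h'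
    rw [h1, h2] at h'
    exact Prod.ext (Subtype.ext (mul_right_cancel h')) (Prod.ext h1 h2)
  rw [← Nat.card_eq_of_bijective f hf, Nat.card_prod, Nat.card_prod, card_KL,
    Nat.card_eq_fintype_card (α := Bool), Fintype.card_bool]

theorem orbit_A (v : V) : v ∈ inM maskA ↔ ∃ p ∈ KF, p t0 = v :=
  ⟨fun hv => by obtain ⟨g, hg, e⟩ := reach_A hv; exact ⟨g, KL_le_KF hg, e⟩,
    fun ⟨p, hp, e⟩ => e ▸ KF_invA hp t0_mem⟩

theorem orbit_B (v : V) : v ∈ inM maskB ↔ ∃ p ∈ KF, p u0 = v := by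
  refine ⟨fun hv => by obtain ⟨g, hg, e⟩ := reach_B hv; exact ⟨g, KL_le_KF hg, e⟩, ?_⟩
  rintro ⟨p, hp, rfl⟩
  obtain ⟨h1, h2⟩ := (sing_iff u0).mp (Or.inr u0_mem)
  refine ((sing_iff _).mpr ⟨fun e => h1 (p.injective (e.trans (KF_q hp u0).2.symm)), ?_⟩).resolve_left
    fun hA => not_both u0 ⟨?_, u0_mem⟩
  · rw [(KF_q hp u0).1, h2]
  · have := KF_invA (inv_mem hp) hA
    rwa [Perm.inv_def, Equiv.symm_apply_apply] at this

theorem card_stA : Nat.card (stV KF t0) = 2 ^ 8 * 405 := by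
  have h := card_stV_mul orbit_A
  rw [ncard_A, card_KF] at h
  norm_num
  omega

theorem card_stB : Nat.card (stV KF u0) = 2 ^ 9 * 45 := by
  have h := card_stV_mul orbit_B
  rw [ncard_B, card_KF] at h
  norm_num
  omega

/-- The full group has four cosets of the linear one. -/
theorem card_four {E : Subgroup (Perm V)} (hE : E ≤ KF) : Nat.card E ≤ 4 * Nat.card ↥(E ⊓ KL) := by
  classical
  have hdec : ∀ p : E, ∃ ab : Bool × Bool, (p : Perm V) * cosR ab.1 ab.2 ∈ KL := fun p => by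
    obtain ⟨k, hk, a, b, e⟩ := hE p.2
    exact ⟨(a, b), by rw [e, mul_assoc, cosR_mul, Bool.xor_self, Bool.xor_self]; simpa [cosR] using hk⟩
  choose ab hab using hdec
  have hfib : ∀ ab' : Bool × Bool, Nat.card {p : E // ab p = ab'} ≤ Nat.card ↥(E ⊓ KL) := fun ab' => by
    rcases isEmpty_or_nonempty {p : E // ab p = ab'} with h | ⟨⟨p₀, h₀⟩⟩
    · simp
    refine Nat.card_le_card_of_injective (fun p => ⟨(p.1 : Perm V) * (p₀ : Perm V)⁻¹, E.mul_mem p.1.2 (E.inv_mem p₀.2), ?_⟩)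
      fun p q e => Subtype.ext (Subtype.ext (mul_right_cancel (congrArg Subtype.val e)))
    have h1 := mul_mem (hab p.1) (inv_mem (hab p₀))
    rw [p.2, h₀, _root_.mul_inv_rev, ← mul_assoc, mul_inv_cancel_right] at h1
    exact h1
  calc Nat.card E = Nat.card (Σ ab', {p : E // ab p = ab'}) := Nat.card_congr (Equiv.sigmaFiberEquiv ab).symm
    _ = ∑ ab', Nat.card {p : E // ab p = ab'} := Nat.card_sigma
    _ ≤ ∑ _ab' : Bool × Bool, Nat.card ↥(E ⊓ KL) := Finset.sum_le_sum fun ab' _ => hfib ab'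
    _ = 4 * Nat.card ↥(E ⊓ KL) := by simp

/-- A linear two-group normalised by the stabiliser of the first vector has order at most two. -/
theorem card_le_two {N : Subgroup (Perm V)} (hN : IsPGroup 2 ↥N) (hle : N ≤ stV KL t0)
    (hnorm : ∀ g ∈ stV KL t0, ∀ n ∈ N, g * n * g⁻¹ ∈ N) : Nat.card N ≤ 2 := by
  classical
  set L := Subgroup.closure {g : Perm V | ∃ j < tGens.length, g = lin (elN (tGens.getD j 0))}
  have hLst : L ≤ stV KL t0 := (Subgroup.closure_le _).mpr (by rintro _ ⟨j, hj, rfl⟩; exact t_gen_mem j hj)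
  have hLgen : ∀ j < tGens.length, lin (elN (tGens.getD j 0)) ∈ L := fun j hj => Subgroup.subset_closure ⟨j, hj, rfl⟩
  have hreach : ∀ v ∈ inM maskC, ∃ g ∈ L, g (vecN (orbC.getD 0 (0, 0, 0)).1) = v := fun v hv => by
    obtain ⟨g, hg, e⟩ := tree_reach orbC_ok.1 (fun j hj => (wordsB_spec tGens_ok.1 hj).1) hLgen
      ((mem_of_maskOK orbC_ok.2.2.1).mp hv)
    exact ⟨g, hg, by rw [← vecN_cdV v]; exact e⟩
  have hfix : ∀ n ∈ N, ∀ v ∈ inM maskC, n v = v := fun n hn v hv => by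
    refine fix_of_odd (Set.toFinite _) (by rw [ncard_C]; decide) hN
      (fun p hp w hw => KL_C (hle hp).1 (hle hp).2 hw) (fun g hg => hnorm g (hLst hg)) (fun a ha b hb => ?_) hn hv
    obtain ⟨g, hg, e⟩ := hreach a ha
    obtain ⟨g', hg', e'⟩ := hreach b hb
    exact ⟨g' * g⁻¹, mul_mem hg' (inv_mem hg), by rw [Perm.mul_apply, ← e, Perm.inv_def, Equiv.symm_apply_apply, e']⟩
  set l := ((List.range 4096).filter fun n => (List.range 5).all fun i =>
    beqK (CfsgLib.Fi24Q.hN n (basisC.getD i 0)) (CfsgLib.Fi24Q.hN (basisC.getD 5 0) (basisC.getD i 0))).filter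
      fun n => beqK (qN n) (qN (basisC.getD 5 0)) with hl
  have hScard : l.toFinset.card ≤ 2 := (List.toFinset_card_le _).trans (Nat.le_of_ble_eq_true stabA_ok.2.1)
  have hb5 : ∀ i < 5, vecN (basisC.getD i 0) ∈ inM maskC := fun i hi => by
    have h : maskC.testBit (basisC.getD i 0) = true := List.all_eq_true.mp basisC_ok.2.1 i (List.mem_range.mpr hi)
    obtain ⟨h1, h2⟩ := (Bool.and_eq_true _ _).mp orbC_ok.2.2.1
    have h3 := h
    rw [← Nat.eq_of_beq_eq_true h1, testBit_maskOf] at h3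
    have hlt := List.all_eq_true.mp h2 _ h3
    rw [Nat.blt_eq] at hlt
    rw [mem_inM, cdV_vecN hlt]
    exact h
  have himg : ∀ n : N, cdV (n.1 wC) ∈ l.toFinset := fun n => by
    obtain ⟨k, -, hk⟩ := (hle n.2).1
    simp only [hl, List.mem_toFinset, List.mem_filter, List.mem_range, List.all_eq_true, beqK_iff]
    refine ⟨⟨cdV_lt _, fun i hi => ?_⟩, ?_⟩
    · rw [hN_eq, hN_eq, vecN_cdV]
      conv_lhs => rw [← hfix n.1 n.2 _ (hb5 i hi), ← hk]
      exact hV_lin k _ _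
    · rw [qN_eq, qN_eq, vecN_cdV, ← hk]
      exact hV_lin k _ _
  have hinj : Function.Injective fun n : N => (⟨cdV (n.1 wC), himg n⟩ : l.toFinset) := fun a b h => by
    have h5 : a.1 wC = b.1 wC := cdV_inj (congrArg Subtype.val h)
    obtain ⟨ka, -, ha⟩ := (hle a.2).1
    obtain ⟨kb, -, hb⟩ := (hle b.2).1
    refine Subtype.ext ?_
    rw [← ha, ← hb]
    refine congrArg lin (gm_inj ?_)
    have hcol : gm ka * basisCM = gm kb * basisCM := by
      refine Matrix.ext_of_mulVec_single fun j => ?_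
      rw [← mulVec_mulVec, ← mulVec_mulVec]
      have e : basisCM *ᵥ Pi.single j 1 = vecN (basisC.getD j.val 0) := by
        funext i
        rw [Matrix.mulVec_single_one]
        rfl
      rw [e, ← lin_apply, ← lin_apply, ha, hb]
      rcases Nat.lt_or_ge j.val 5 with h' | h'
      · rw [hfix a.1 a.2 _ (hb5 _ h'), hfix b.1 b.2 _ (hb5 _ h')]
      · rw [show j.val = 5 by have := j.2; omega]
        exact h5
    calc gm ka = gm ka * (basisCM * mat6 (ofN basisCInv)) := by rw [basisCM_inv, mul_one]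
      _ = gm kb * (basisCM * mat6 (ofN basisCInv)) := by rw [← mul_assoc, hcol, mul_assoc]
      _ = gm kb := by rw [basisCM_inv, mul_one]
  exact (Nat.card_le_card_of_injective _ hinj).trans (by rw [Nat.card_eq_finsetCard]; exact hScard)

/-- No element of the stabiliser's normal two-subgroup lies in a coset of the transposition. -/
theorem no_tau {E : Subgroup (Perm V)} (hE : E ≤ stV KF u0) (hE2 : IsPGroup 2 ↥E)
    (hnorm : ∀ g ∈ stV KF u0, ∀ n ∈ E, g * n * g⁻¹ ∈ E) {R : Perm V} {c : Bool} (hRE : IsE R (ofN tauN, c))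
    (hR : R ∈ KF) (hsq : R * R = 1) (hu : R u0 = u0) {tw : List (List ℕ)} (htw : tw = twTau ∨ tw = twSig)
    (hset : ((List.range 2).all fun j =>
      setsB (mulE (ofN tauN, c) (mulE (eN (xGens.getD j 0) false) (ofN tauN, c))) sixL sixM (tw.getD j [])) = true)
    {n : Perm V} (hn : n ∈ E) : R * n ∉ KL := by
  intro hk
  have hLH : ∀ g ∈ stV KL u0, g ∈ stV KF u0 := fun g hg => ⟨KL_le_KF hg.1, hg.2⟩
  obtain ⟨hid, -⟩ := two_normal (N := E ⊓ KL) (hE2.to_le inf_le_left) (fun p hp => ⟨hp.2, (hE hp.1).2⟩)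
    fun g hg n hn => ⟨hnorm g (hLH g hg) n hn.1,
      (show g * n * g⁻¹ ∈ KL from mul_mem (mul_mem hg.1 hn.2) (inv_mem hg.1))⟩
  have hRinv : R⁻¹ = R := inv_eq_of_mul_eq_one_right hsq
  have hk' : R * n ∈ stV KL u0 := ⟨hk, by
    show R (n u0) = u0
    rw [show n u0 = u0 from (hE hn).2, hu]⟩
  obtain ⟨kk, hkk, -, -, -, -, -, hkact, -, -⟩ := shape hk'
  have key : ∀ j, j < 2 → ∀ i : Fin 6,
      posF (by norm_num : 0 < 6) (tw.getD j []) (sixP kk i) = sixP kk (xp j i) := fun j hj i => by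
    obtain ⟨hgL, hgE, hga⟩ := xg_spec j hj
    set g := xg j with hg
    have hc : n * g * n⁻¹ * g⁻¹ ∈ E ⊓ KL := by
      refine ⟨?_, show n * g * n⁻¹ * g⁻¹ ∈ KL from mul_mem (KF_conj_KL (hE hn).1 hgL.1) (inv_mem hgL.1)⟩
      have := mul_mem hn (hnorm g (hLH g hgL) _ (inv_mem hn))
      simpa [mul_assoc] using this
    have hRc : R * (n * g * n⁻¹ * g⁻¹) * R⁻¹ ∈ E ⊓ KL := by
      refine ⟨?_, KF_conj_KL hR hc.2⟩
      have h1 : n⁻¹ * (n * g * n⁻¹ * g⁻¹) * n ∈ E := mul_mem (mul_mem (inv_mem hn) hc.1) hn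
      have h2 := hnorm (R * n) (hLH _ hk') _ h1
      simpa [mul_assoc] using h2
    have e : (R * n) * g * (R * n)⁻¹ = (R * (n * g * n⁻¹ * g⁻¹) * R⁻¹) * (R * (g * R)) := by
      rw [_root_.mul_inv_rev, hRinv]
      simp [mul_assoc, ← mul_assoc R R, hsq]
    have hact : Acts sixM (R * (g * R)) (posF (by norm_num : 0 < 6) (tw.getD j [])) :=
      acts_six (hRE.mul (hgE.mul hRE)) (List.all_eq_true.mp hset j (List.mem_range.mpr hj))
    have h1 : Acts sixM ((R * n) * g) (posF (by norm_num : 0 < 6) (tw.getD j []) ∘ sixP kk) := by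
      rw [show (R * n) * g = (R * (n * g * n⁻¹ * g⁻¹) * R⁻¹) * (R * (g * R)) * (R * n) by rw [← e]; group]
      exact ((hid _ hRc).mul hact).mul hkact
    exact (congrFun (h1.unique six_inj (hkact.mul hga)) i)
  have h := List.all_eq_true.mp (List.all_eq_true.mp twist_ok.2.2.2.2.2 kk (List.mem_range.mpr hkk)) tw (by
    rcases htw with rfl | rfl <;> simp)
  rw [Bool.not_eq_true', ← Bool.not_eq_true] at h
  refine h (List.all_eq_true.mpr fun j hj => List.all_eq_true.mpr fun i hi => ?_)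
  rw [List.mem_range] at hj hi
  have e := congrArg Fin.val (key j hj ⟨i, hi⟩)
  have hx : (xp j ⟨i, hi⟩).val = (xPerm.getD j []).getD i 0 := Nat.mod_eq_of_lt (Nat.blt_eq.mp
    (List.all_eq_true.mp (List.all_eq_true.mp xPerm_lt.1 j (List.mem_range.mpr hj)) i (List.mem_range.mpr hi)))
  rw [sixP_val hkk, hx] at e
  simp only [posF, sixP_val hkk] at e
  have htwlt : (tw.getD j []).getD (sixAt kk i) 0 < 6 := by
    have h := List.all_eq_true.mp hset j (List.mem_range.mpr hj)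
    simp only [setsB, List.all_eq_true, List.mem_range, Bool.and_eq_true, Nat.blt_eq, six_ok.1] at h
    exact (h _ (sixP_val hkk ⟨i, hi⟩ ▸ (sixP kk ⟨i, hi⟩).2)).1
  rw [Nat.mod_eq_of_lt htwlt] at e
  rw [Nat.beq_eq]
  exact e

/-- Such a subgroup avoids the transposition. -/
theorem le_Par {E : Subgroup (Perm V)} (hE : E ≤ stV KF u0) (hE2 : IsPGroup 2 ↥E)
    (hnorm : ∀ g ∈ stV KF u0, ∀ n ∈ E, g * n * g⁻¹ ∈ E) : E ≤ Par false := by
  intro n hn
  obtain ⟨k, hk, a, b, rfl⟩ := (hE hn).1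
  cases a
  · exact ⟨k, hk, false, b, rfl, rfl⟩
  exfalso
  have hR : cosR true b * (k * cosR true b) ∈ KL := by
    rw [← mul_assoc]
    nth_rewrite 2 [← cosR_inv]
    exact cosR_KL true b hk
  have hsq : cosR true b * cosR true b = 1 := by rw [cosR_mul]; simp [cosR]
  cases b
  · exact no_tau hE hE2 hnorm (R := cosR true false) (c := false) (by simpa [cosR] using isE_tP) (cosR_mem _ _) hsq
      (cosR_fix _ _).2 (Or.inl rfl) twist_ok.1 hn hR
  · exact no_tau hE hE2 hnorm (R := cosR true true) (c := true) (by simpa [cosR, tP] using isE_Rf) (cosR_mem _ _) hsq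
      (cosR_fix _ _).2 (Or.inr rfl) twist_ok.2.1 hn hR

end CfsgLib.Fi24Chz
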