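/-
A conjugate of the involution in the core, and the image of its core.
-/
import Cfsg.Agent.Lib.Fi24Q.Pair
import Cfsg.Agent.Lib.Fi24Chz.Stab

set_option autoImplicit false
set_option maxRecDepth 30000
set_option linter.style.haveILetI false
set_option linter.unusedSectionVars false

namespace CfsgLib.Fi24Chz

open Matrix CfsgLib.G24 CfsgLib.SUSixSub Equiv CfsgLib.ExtraTwo CfsgLib.Fi24Q
open scoped commutatorElement

attribute [local irreducible] maskA maskB tauN gensA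

variable {G : Type*} [Group G] [Finite G] {z : G} {Q : Subgroup (Cz z)} [hQn : Q.Normal]

/-- The two lifts of a non-central vector are conjugate in the core. -/
theorem conj_lift (D : Pre z Q) {a : Q} (h : D.pi a ≠ 0) : ∃ q : Q, q * a * q⁻¹ = a * D.zq := by
  have hc : a ∉ Subgroup.center ↥Q := fun hm => h ((D.pi_ker a).mpr ((D.ext2.center_iff a).mp hm))
  rw [Subgroup.mem_center_iff] at hc
  push Not at hc
  obtain ⟨q, hq⟩ := hc
  rcases D.ext2.comm_cases q a with e | e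
  · exact absurd (commutatorElement_eq_one_iff_mul_comm.mp e) hq
  · refine ⟨q, ?_⟩
    rw [commutatorElement_def, mul_inv_eq_iff_eq_mul] at e
    rw [e]
    exact (D.ext2.z_comm a).eq.symm

variable (D : Pre z Q) {g : G} {a : Q}
include D

theorem qc_le (ha : g * z * g⁻¹ = ((a : Cz z) : G)) : Qc Q g ≤ Subgroup.centralizer ({(a : Cz z)} : Set (Cz z)) := by
  intro x hx
  obtain ⟨q, -, hq⟩ := mem_Qc.mp hx
  refine Subgroup.mem_centralizer_singleton_iff.mpr (Subtype.ext ?_)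
  rw [Subgroup.coe_mul, Subgroup.coe_mul, ← hq, ← ha]
  have h : (q : G) * z = z * (q : G) := Subgroup.mem_centralizer_singleton_iff.mp q.2
  calc g * (q : G) * g⁻¹ * (g * z * g⁻¹) = g * ((q : G) * z) * g⁻¹ := by group
    _ = g * (z * (q : G)) * g⁻¹ := by rw [h]
    _ = g * z * g⁻¹ * (g * (q : G) * g⁻¹) := by group

theorem conj_mem_cz (ha : g * z * g⁻¹ = ((a : Cz z) : G)) {x : Cz z}
    (hx : x ∈ Subgroup.centralizer ({(a : Cz z)} : Set (Cz z))) : g⁻¹ * (x : G) * g ∈ Cz z := by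
  refine Subgroup.mem_centralizer_singleton_iff.mpr ?_
  have h : (x : G) * ((a : Cz z) : G) = ((a : Cz z) : G) * (x : G) :=
    congrArg Subtype.val (Subgroup.mem_centralizer_singleton_iff.mp hx)
  rw [← ha] at h
  calc g⁻¹ * (x : G) * g * z = g⁻¹ * ((x : G) * (g * z * g⁻¹)) * g := by group
    _ = g⁻¹ * (g * z * g⁻¹ * (x : G)) * g := by rw [h]
    _ = z * (g⁻¹ * (x : G) * g) := by group

/-- The core meets its conjugate in an elementary abelian group. -/
theorem qc_comm_sq (ha : g * z * g⁻¹ = ((a : Cz z) : G)) (hne : ((a : Cz z) : G) ≠ z) :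
    ∀ x y : Q, (x : Cz z) ∈ Qc Q g → (y : Cz z) ∈ Qc Q g → x * y = y * x ∧ x * x = 1 := by
  intro x y hx hy
  obtain ⟨qx, hqx, ex⟩ := mem_Qc.mp hx
  obtain ⟨qy, hqy, ey⟩ := mem_Qc.mp hy
  have split : ∀ w w' : Q, (w = 1 ∨ w = D.zq) → (w' = 1 ∨ w' = D.zq) →
      g * ((w' : Cz z) : G) * g⁻¹ = ((w : Cz z) : G) → w = 1 := by
    intro w w' hw hw' he
    rcases hw with rfl | rfl
    · rfl
    · exfalso
      rcases hw' with rfl | rfl
      · have : z = 1 := by simpa [D.coe_zq] using he.symm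
        have h2 := D.z2
        rw [this, orderOf_one] at h2
        norm_num at h2
      · rw [D.coe_zq, ha] at he
        exact hne he
  refine ⟨?_, ?_⟩
  · have := split ⁅x, y⁆ ⁅(⟨qx, hqx⟩ : Q), ⟨qy, hqy⟩⁆ (D.ext2.comm_cases _ _) (D.ext2.comm_cases _ _) (by
      simp only [commutatorElement_def, Subgroup.coe_mul, Subgroup.coe_inv]
      rw [← ex, ← ey]; group)
    exact commutatorElement_eq_one_iff_mul_comm.mp this
  · exact split (x * x) (⟨qx, hqx⟩ * ⟨qx, hqx⟩) (D.ext2.sq _) (D.ext2.sq _) (by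
      simp only [Subgroup.coe_mul]
      rw [← ex]; group)

theorem card_split (X : Subgroup (Cz z)) : Nat.card ↥(X.map D.th) * Nat.card ↥(X ⊓ Q) = Nat.card ↥X := by
  have h := (D.th.comp X.subtype).ker.card_mul_index
  rw [Subgroup.index_ker, MonoidHom.range_comp, Subgroup.range_subtype] at h
  rw [← h, mul_comm]
  congr 1
  exact Nat.card_congr ⟨fun x => ⟨⟨x.1, x.2.1⟩, (D.th_ker x.1).mpr x.2.2⟩,
    fun x => ⟨x.1.1, x.1.2, (D.th_ker x.1.1).mp x.2⟩, fun _ => rfl, fun _ => rfl⟩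

theorem card_inf_le (ha : g * z * g⁻¹ = ((a : Cz z) : G)) (hne : ((a : Cz z) : G) ≠ z) :
    Nat.card ↥(Qc Q g ⊓ Q) ≤ 2 ^ 7 := by
  have key := qc_comm_sq D ha hne
  have h := card_elementary_le D.ext2 (n := 6) (by rw [D.card_Q]; norm_num) (A := (Qc Q g).subgroupOf Q)
    ⟨⟨fun x y => Subtype.ext (key x.1 y.1 x.2 y.2).1⟩⟩ (fun x hx => by rw [pow_two]; exact (key x x hx hx).2)
  rw [← Subgroup.subgroupOf_map_subtype, Subgroup.card_map_of_injective Q.subtype_injective]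
  exact h.1

theorem map_centralizer (h0 : D.pi a ≠ 0) :
    (Subgroup.centralizer ({(a : Cz z)} : Set (Cz z))).map D.th = stV D.th.range (D.pi a) := by
  ext p
  constructor
  · rintro ⟨x, hx, rfl⟩
    refine ⟨⟨x, rfl⟩, ?_⟩
    show D.th x (D.pi a) = D.pi a
    rw [D.th_pi]
    congr 1
    exact Subtype.ext (show x * (a : Cz z) * x⁻¹ = a by
      rw [Subgroup.mem_centralizer_singleton_iff.mp hx, mul_inv_cancel_right])
  · rintro ⟨⟨x, rfl⟩, hp⟩
    have hp' : D.th x (D.pi a) = D.pi a := hp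
    rw [D.th_pi, D.pi_eq] at hp'
    rcases hp' with e | e
    · exact ⟨x, Subgroup.mem_centralizer_singleton_iff.mpr
        (mul_inv_eq_iff_eq_mul.mp (congrArg Subtype.val e).symm), rfl⟩
    · obtain ⟨q, hq⟩ := conj_lift D h0
      -- move the conjugate back inside the core
      have e' : x * (a : Cz z) * x⁻¹ = (q * a * q⁻¹ : Q) := by
        rw [hq]
        have h2 := congrArg Subtype.val e
        rw [Subgroup.coe_mul] at h2 ⊢
        have hzz : ((D.zq : Q) : Cz z) * D.zq = 1 := congrArg Subtype.val D.ext2.zz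
        calc x * (a : Cz z) * x⁻¹ = x * (a : Cz z) * x⁻¹ * (((D.zq : Q) : Cz z) * D.zq) := by rw [hzz, mul_one]
          _ = (conjQ x a : Cz z) * D.zq * D.zq := by rw [mul_assoc (conjQ x a : Cz z)]; rfl
          _ = (a : Cz z) * D.zq := by rw [← h2]
      refine ⟨(q : Cz z)⁻¹ * x, Subgroup.mem_centralizer_singleton_iff.mpr ?_, by
        rw [map_mul, map_inv, (D.th_ker q).mpr q.2, inv_one, one_mul]⟩
      rw [← mul_inv_eq_iff_eq_mul]
      rw [Subgroup.coe_mul, Subgroup.coe_mul, Subgroup.coe_inv] at e'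
      calc (q : Cz z)⁻¹ * x * a * ((q : Cz z)⁻¹ * x)⁻¹ = (q : Cz z)⁻¹ * (x * a * x⁻¹) * q := by group
        _ = a := by rw [e']; group

theorem card_cent_core (h0 : D.pi a ≠ 0) :
    Nat.card ↥(Subgroup.centralizer ({(a : Cz z)} : Set (Cz z)) ⊓ Q) = 4096 := by
  have hc : a ∉ Subgroup.center ↥Q := fun hm => h0 ((D.pi_ker a).mpr ((D.ext2.center_iff a).mp hm))
  rw [Subgroup.mem_center_iff] at hc
  push Not at hc
  obtain ⟨q₀, hq₀⟩ := hc
  have hi : (Subgroup.centralizer ({a} : Set Q)).index = 2 := Subgroup.index_eq_two_iff.mpr ⟨q₀, fun b => by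
    simp only [Subgroup.mem_centralizer_singleton_iff, D.ext2.mul_comm_iff, iff_false_right hq₀]
    exact (xor_not_left).mpr Iff.rfl⟩
  have h := (Subgroup.centralizer ({a} : Set Q)).card_mul_index
  rw [hi, D.card_Q] at h
  have e : Nat.card ↥(Subgroup.centralizer ({(a : Cz z)} : Set (Cz z)) ⊓ Q) =
      Nat.card ↥(Subgroup.centralizer ({a} : Set Q)) :=
    Nat.card_congr ⟨fun x => ⟨⟨x.1, x.2.2⟩, Subgroup.mem_centralizer_singleton_iff.mpr
        (Subtype.ext (Subgroup.mem_centralizer_singleton_iff.mp x.2.1))⟩,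
      fun x => ⟨x.1.1, Subgroup.mem_centralizer_singleton_iff.mpr
        (congrArg Subtype.val (Subgroup.mem_centralizer_singleton_iff.mp x.2)), x.1.2⟩, fun _ => rfl, fun _ => rfl⟩
  omega

theorem card_dvd (hR : D.th.range = KF) (ha : g * z * g⁻¹ = ((a : Cz z) : G)) :
    Nat.card ↥(Subgroup.centralizer ({(a : Cz z)} : Set (Cz z))) ∣ Nat.card ↥(Qc Q g) * 39191040 := by
  set X := Subgroup.centralizer ({(a : Cz z)} : Set (Cz z))
  let φ : ↥X →* Cz z :=
    MonoidHom.mk' (fun x => ⟨g⁻¹ * ((x : Cz z) : G) * g, conj_mem_cz D ha x.2⟩) fun x y => Subtype.ext (by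
      simp only [Subgroup.coe_mul]; group)
  have hφ : Function.Injective φ := fun x y h => by
    have h' : g⁻¹ * ((x : Cz z) : G) * g = g⁻¹ * ((y : Cz z) : G) * g := congrArg Subtype.val h
    exact Subtype.ext (Subtype.ext (mul_left_cancel (mul_right_cancel h')))
  have hcard : Nat.card ↥φ.range = Nat.card ↥X := Nat.card_congr (MonoidHom.ofInjective hφ).toEquiv.symm
  have hinf : Nat.card ↥(φ.range ⊓ Q) = Nat.card ↥(Qc Q g) := by
    refine Nat.card_congr
      { toFun := fun y => ⟨⟨g * ((y : Cz z) : G) * g⁻¹, ?_⟩, ?_⟩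
        invFun := fun x => ⟨⟨g⁻¹ * ((x : Cz z) : G) * g, conj_mem_cz D ha (qc_le D ha x.2)⟩, ?_⟩
        left_inv := fun y => Subtype.ext (Subtype.ext (by simp [mul_assoc]))
        right_inv := fun x => Subtype.ext (Subtype.ext (by simp [mul_assoc])) }
    · obtain ⟨x, hx⟩ := y.2.1
      have hx' : g⁻¹ * ((x : Cz z) : G) * g = ((y : Cz z) : G) := congrArg Subtype.val hx
      rw [show g * ((y : Cz z) : G) * g⁻¹ = ((x : Cz z) : G) by rw [← hx']; group]
      exact (x : Cz z).2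
    · exact mem_Qc.mpr ⟨(y : Cz z), y.2.2, rfl⟩
    · obtain ⟨q, hq, hqe⟩ := mem_Qc.mp x.2
      refine ⟨⟨⟨x.1, qc_le D ha x.2⟩, rfl⟩, ?_⟩
      have e : (⟨g⁻¹ * ((x : Cz z) : G) * g, conj_mem_cz D ha (qc_le D ha x.2)⟩ : Cz z) = q :=
        Subtype.ext (by show g⁻¹ * ((x : Cz z) : G) * g = (q : G); rw [← hqe]; group)
      rw [e]; exact hq
  rw [← hcard, ← card_split D φ.range, hinf, mul_comm]
  refine Nat.mul_dvd_mul_left _ ?_
  rw [← card_KF, ← hR]
  exact Subgroup.card_dvd_of_le (by rw [MonoidHom.range_eq_map D.th]; exact Subgroup.map_mono le_top)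

theorem image_core (ha : g * z * g⁻¹ = ((a : Cz z) : G)) (h0 : D.pi a ≠ 0) :
    (Qc Q g).map D.th ≤ stV D.th.range (D.pi a) ∧ IsPGroup 2 ↥((Qc Q g).map D.th) ∧
      ∀ p ∈ stV D.th.range (D.pi a), ∀ n ∈ (Qc Q g).map D.th, p * n * p⁻¹ ∈ (Qc Q g).map D.th := by
  refine ⟨map_centralizer D h0 ▸ Subgroup.map_mono (qc_le D ha), ?_, ?_⟩
  · exact ((((D.ext2.isPGroup).map (Cz z).subtype).map (MulAut.conj g).toMonoidHom).comap_of_injective _
      (Cz z).subtype_injective).map _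
  · intro p hp n hn
    rw [← map_centralizer D h0] at hp
    obtain ⟨x, hx, rfl⟩ := hp
    obtain ⟨y, hy, rfl⟩ := hn
    obtain ⟨q, hq, hqe⟩ := mem_Qc.mp hy
    refine ⟨x * y * x⁻¹, mem_Qc.mpr ⟨⟨_, conj_mem_cz D ha hx⟩ * q * ⟨_, conj_mem_cz D ha hx⟩⁻¹,
      hQn.conj_mem q hq _, ?_⟩, by rw [map_mul, map_mul, map_inv]⟩
    simp only [Subgroup.coe_mul, Subgroup.coe_inv, ← hqe]
    group

/-- The order of the image of the conjugate core. -/
theorem image_large (hR : D.th.range = KF) (ha : g * z * g⁻¹ = ((a : Cz z) : G)) (hne : ((a : Cz z) : G) ≠ z) (h0 : D.pi a ≠ 0) {s m : ℕ}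
    (hs : Nat.card (stV D.th.range (D.pi a)) = 2 ^ s * m) :
    ∃ e, Nat.card ↥((Qc Q g).map D.th) = 2 ^ e ∧ 2 ^ (s + 12) ∣ 2 ^ (e + 16) * 76545 := by
  haveI : Fact (Nat.Prime 2) := ⟨Nat.prime_two⟩
  obtain ⟨-, h2, -⟩ := image_core D ha h0
  obtain ⟨e, he⟩ := IsPGroup.iff_card.mp h2
  refine ⟨e, he, ?_⟩
  have hX := card_split D (Subgroup.centralizer ({(a : Cz z)} : Set (Cz z)))
  rw [map_centralizer D h0, card_cent_core D h0, hs] at hX
  have hq := card_split D (Qc Q g)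
  have hd := card_dvd D hR ha
  obtain ⟨d, hd2⟩ := IsPGroup.iff_card.mp ((IsPGroup.of_card (p := 2) (n := 13) (by rw [D.card_Q]; norm_num) :
    IsPGroup 2 ↥Q).to_le (inf_le_right : Qc Q g ⊓ Q ≤ Q))
  have hle := card_inf_le D ha hne
  rw [hd2] at hle hq
  have hd7 : d ≤ 7 := (Nat.pow_le_pow_iff_right (by norm_num)).mp hle
  rw [he] at hq
  rw [← hX, ← hq] at hd
  refine (Dvd.intro m ?_ : 2 ^ (s + 12) ∣ _).trans (hd.trans ?_)
  · rw [pow_add]; ring
  · rw [show (39191040 : ℕ) = 2 ^ 9 * 76545 by norm_num, ← mul_assoc, ← pow_add, ← pow_add]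
    exact Nat.mul_dvd_mul_right (pow_dvd_pow 2 (by omega)) _

/-- The first orbit does not occur. -/
theorem not_in_A (hR : D.th.range = KF) (ha : g * z * g⁻¹ = ((a : Cz z) : G)) (hne : ((a : Cz z) : G) ≠ z)
    (hp : D.pi a = t0) : False := by
  have h0 : D.pi a ≠ 0 := by rw [hp]; exact ((sing_iff t0).mp (Or.inl t0_mem)).1
  have hs : Nat.card (stV D.th.range (D.pi a)) = 2 ^ 8 * 405 := by rw [hp, hR, card_stA]
  obtain ⟨e, he, hdvd⟩ := image_large D hR ha hne h0 hs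
  have h4 : 4 ≤ e := by
    have := pow_le_exp (by decide) hdvd
    omega
  obtain ⟨hle, h2, hnorm⟩ := image_core D ha h0
  rw [hp, hR] at hle hnorm
  have h := card_four (E := (Qc Q g).map D.th) fun p hp => (hle hp).1
  have hN := card_le_two (N := (Qc Q g).map D.th ⊓ KL) (h2.to_le inf_le_left) (fun p hp => ⟨hp.2, (hle hp.1).2⟩)
    fun k hk n hn => ⟨hnorm k ⟨KL_le_KF hk.1, hk.2⟩ n hn.1,
      (show k * n * k⁻¹ ∈ KL from mul_mem (mul_mem hk.1 hn.2) (inv_mem hk.1))⟩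
  rw [he] at h
  have h16 : 2 ^ 4 ≤ 2 ^ e := Nat.pow_le_pow_right (by norm_num) h4
  omega

omit D

theorem twist_range (D : Pre z Q) (hR : D.th.range = KF) {k : Perm V} (hk : k ∈ KF) (hki : IsIso k) :
    (D.twist hki).th.range = KF := by
  ext p
  constructor
  · rintro ⟨c, rfl⟩
    rw [D.twist_th]
    exact mul_mem (mul_mem hk (hR ▸ ⟨c, rfl⟩)) (inv_mem hk)
  · intro hp
    obtain ⟨c, hc⟩ : k⁻¹ * p * k ∈ D.th.range := by rw [hR]; exact mul_mem (mul_mem (inv_mem hk) hp) hk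
    exact ⟨c, by rw [D.twist_th, hc]; group⟩

/-- **The conjugate core avoids the transposition.** -/
theorem pair_par (D : Pre z Q) (hR : D.th.range = KF) (ha : g * z * g⁻¹ = ((a : Cz z) : G))
    (hne : ((a : Cz z) : G) ≠ z) {m : Cz z} (hm : m ∈ Qc Q g) : D.th m ∈ Par false := by
  have hzz : z * z = 1 := by rw [← pow_two, ← D.z2, pow_orderOf_eq_one]
  have haa : a * a = 1 := Subtype.ext (Subtype.ext (by
    rw [Subgroup.coe_mul, Subgroup.coe_mul, ← ha]
    calc g * z * g⁻¹ * (g * z * g⁻¹) = g * (z * z) * g⁻¹ := by group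
      _ = 1 := by rw [hzz, mul_one, mul_inv_cancel]))
  have hs : D.pi a ∈ inM maskA ∨ D.pi a ∈ inM maskB := by
    refine (sing_iff _).mpr ⟨fun e => ?_, (D.sq_iff a).mp haa⟩
    rcases (D.pi_ker a).mp e with e | e
    · have h1 : g * z * g⁻¹ = 1 := by rw [ha, e]; rfl
      have h2 := D.z2
      rw [show z = 1 from conj_eq_one_iff.mp h1, orderOf_one] at h2
      norm_num at h2
    · exact hne (by rw [e, D.coe_zq])
  rcases hs with hA | hB
  · exfalso
    obtain ⟨k, hk, e⟩ := reach_A hA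
    have hki : IsIso k⁻¹ := by obtain ⟨l, -, rfl⟩ := hk; exact (isIso_lin l).inv
    exact not_in_A (D.twist hki) (twist_range D hR (inv_mem (KL_le_KF hk)) hki) ha hne
      (show k⁻¹ (D.pi a) = t0 by rw [← e, Perm.inv_def, Equiv.symm_apply_apply])
  · obtain ⟨k, hk, e⟩ := reach_B hB
    have hki : IsIso k⁻¹ := by obtain ⟨l, -, rfl⟩ := hk; exact (isIso_lin l).inv
    set D' := D.twist hki with hD'
    have hp : D'.pi a = u0 := show k⁻¹ (D.pi a) = u0 by rw [← e, Perm.inv_def, Equiv.symm_apply_apply]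
    have hR' := twist_range D hR (inv_mem (KL_le_KF hk)) hki
    obtain ⟨hle, h2, hnorm⟩ := image_core D' ha (by rw [hp]; exact ((sing_iff u0).mp (Or.inr u0_mem)).1)
    rw [hp, hR'] at hle hnorm
    have h1 := le_Par hle h2 hnorm (Subgroup.mem_map_of_mem D'.th hm)
    rw [hD', D.twist_th, inv_inv] at h1
    have hkP := KL_le_Par false hk
    simpa [mul_assoc] using mul_mem (mul_mem hkP h1) (inv_mem hkP)

/-- The good elements of the second parity. -/
theorem good_par (D : Pre z Q) (hR : D.th.range = KF) (hF : Cfsg.generalizedFittingSubgroup (Cz z) = Q)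
    (hE : Cfsg.IsExtraspecial 2 Q) (x : G) (a : Q) (hx : x * z * x⁻¹ = ((a : Cz z) : G)) (hne : x * z * x⁻¹ ≠ z)
    (e : Q) (hm : x⁻¹ * ((e : Cz z) : G) * x ∈ Cz z) : D.th ⟨_, hm⟩ ∈ Par false := by
  have hes := es_map D hF hE
  have hxQ : x * z * x⁻¹ ∈ Q.map (Cz z).subtype := ⟨(a : Cz z), a.2, hx.symm⟩
  have h := hes.symm_mem hxQ fun _ => hes.exists_pair (by
    rw [Subgroup.card_map_of_injective (Cz z).subtype_injective, D.card_Q]; norm_num) hxQ (hes.cj x).zz
  obtain ⟨q, hq, hqe⟩ := CfsgLargeExtra.mem_cj.mp h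
  refine pair_par D hR (g := x⁻¹) (a := ⟨q, hq⟩) ?_ ?_ (mem_Qc.mpr ⟨e, e.2, by rw [inv_inv]⟩)
  · rw [inv_inv]; exact hqe.symm
  · show (q : G) ≠ z
    rw [show (q : G) = x⁻¹ * z * x from hqe]
    intro h'
    exact hne (by calc x * z * x⁻¹ = x * (x⁻¹ * z * x) * x⁻¹ := by rw [h']
      _ = z := by group)

end CfsgLib.Fi24Chz
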