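/-
The quotient of the centralizer by the standard subgroup, and the case of a linear centralizer.
-/
import Cfsg.Agent.Lib.Fi24Chz.Twist

set_option autoImplicit false
set_option linter.style.haveILetI false
set_option linter.unusedSectionVars false

namespace CfsgLib.Fi24Chz

open Matrix CfsgLib.G24 CfsgLib.SUSixSub Equiv CfsgLib.ExtraTwo CfsgLib.Fi24Q CfsgLargeExtra

attribute [local irreducible] maskA maskB tauN gensA

variable {G : Type*} [Group G] [Finite G] {z : G} {Q : Subgroup (Cz z)} [hQn : Q.Normal]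

theorem relIndex_card {H : Type*} [Group H] {A B : Subgroup H} (h : A ≤ B) :
    A.relIndex B * Nat.card A = Nat.card B := by
  have := (A.subgroupOf B).index_mul_card
  rwa [Nat.card_congr (Subgroup.subgroupOfEquivOfLe h).toEquiv] at this

/-- The quotient is elementary of order at most four. -/
theorem quot_facts (D : Pre z Q) {K : Subgroup (Cz z)} [K.Normal] (hKL : K.map D.th = KL) (hrng : D.th.range ≤ KF)
    (hK : ∀ c, c ∈ K ↔ D.th c ∈ KL) :
    (K.index = 1 ∨ K.index = 2 ∨ K.index = 4) ∧ (∀ x : Cz z ⧸ K, x ^ 2 = 1) ∧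
      (K.index = 4 → D.th.range = KF) := by
  have hle : KL ≤ D.th.range := hKL ▸ Subgroup.map_le_range D.th K
  have hi : K.index = KL.relIndex D.th.range := by
    rw [show K = KL.comap D.th from Subgroup.ext fun c => (hK c).trans Subgroup.mem_comap.symm, Subgroup.index_comap]
  have h4 : KL.relIndex KF = 4 := by
    have h := relIndex_card KL_le_KF
    rw [card_KL, card_KF] at h
    exact Nat.eq_of_mul_eq_mul_right (m := 9797760) (by norm_num) (h.trans (by norm_num))
  have hd : K.index ∣ 4 := ⟨_, by rw [hi, Subgroup.relIndex_mul_relIndex _ _ _ hle hrng, h4]⟩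
  refine ⟨?_, fun x => ?_, fun h => ?_⟩
  · have h5 := Nat.le_of_dvd (by norm_num) hd
    interval_cases K.index <;> omega
  · obtain ⟨c, rfl⟩ := QuotientGroup.mk_surjective x
    rw [← QuotientGroup.mk_pow, QuotientGroup.eq_one_iff, hK, map_pow, pow_two]
    obtain ⟨k, hk, a, b, e⟩ := hrng ⟨c, rfl⟩
    rw [e, show k * cosR a b * (k * cosR a b) = k * (cosR a b * k * (cosR a b)⁻¹) * (cosR a b * cosR a b) by group,
      cosR_mul, Bool.xor_self, Bool.xor_self]
    simpa [cosR] using mul_mem hk (cosR_KL a b hk)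
  · refine Subgroup.eq_of_le_of_card_ge hrng ?_
    have h2 := relIndex_card hle
    rw [← hi, h, card_KL] at h2
    rw [card_KF, ← h2]

/-- A centralizer inducing only the linear maps makes the involution weakly closed. -/
theorem weak_of_linear (D : Pre z Q) {N M : Subgroup (Cz z)} [N.Normal] [M.Normal] (hF : Cfsg.generalizedFittingSubgroup (Cz z) = Q)
    (hE : Cfsg.IsExtraspecial 2 Q) (hQN : Q ≤ N) (hNM : N ≤ M) (hN : Nat.card N = 3 * Nat.card Q) {F : Type} [Field F]
    [Fintype F] (hF9 : Fintype.card F = 9) (e : M ⧸ N.subgroupOf M ≃* Cfsg.PSU 4 F 3) (hxN : D.x ∈ N)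
    (hlin : ∀ c, D.th c ∈ KL) (g : G) (a : Q) (hg : g * z * g⁻¹ = ((a : Cz z) : G)) : g * z * g⁻¹ = z := by
  by_contra hne
  have hes := es_map D hF hE
  have hcQ : Nat.card Q = 2 ^ 13 := by rw [D.card_Q]; norm_num
  obtain ⟨hfpf, -⟩ := core_facts D.z2 hF hE hcQ hQN hNM hN hF9 e
  obtain ⟨c, r, hr, hcr⟩ := Fi24Three.invert_fact (C := Cz z) rfl (Q := Q.map (Cz z).subtype) rfl hes
    (by rw [Subgroup.card_map_of_injective (Cz z).subtype_injective, hcQ])
    ⟨g, ⟨(a : Cz z), a.2, hg.symm⟩, hne⟩ hQN hN hfpf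
  -- the part commuting with everything
  set S := (Subgroup.centralizer (D.th.range : Set (Perm V))).comap D.th ⊓ N with hS
  have hxS : D.x ∈ S := by
    refine ⟨Subgroup.mem_comap.mpr (Subgroup.mem_centralizer_iff.mpr ?_), hxN⟩
    rintro _ ⟨d, rfl⟩
    obtain ⟨k, -, hk⟩ := hlin d
    refine Equiv.ext fun v => ?_
    rw [Perm.mul_apply, Perm.mul_apply, D.x_act, D.x_act, ← hk, (isIso_lin k).smul]
  have hQS : Q ≤ S := fun q hq => ⟨Subgroup.mem_comap.mpr (by rw [(D.th_ker q).mpr hq]; exact one_mem _), hQN hq⟩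
  have hSN : N ≤ S := by
    have h := Subgroup.relIndex_mul_relIndex Q S N hQS inf_le_right
    have h3 : Q.relIndex N = 3 := by
      have := relIndex_card hQN
      rw [hN, Nat.mul_left_inj Nat.card_pos.ne'] at this
      exact this
    rw [h3] at h
    rcases (Nat.dvd_prime Nat.prime_three).mp ⟨_, h.symm⟩ with h1 | h1
    · exfalso
      have hx : D.th D.x = 1 := (D.th_ker _).mpr (Subgroup.relIndex_eq_one.mp h1 hxS)
      have hv := D.x_act t0
      rw [hx, Perm.one_apply] at hv
      obtain ⟨hne0, -⟩ := (sing_iff t0).mp (Or.inl t0_mem)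
      refine hne0 (funext fun i => ?_)
      have hi := congrFun hv i
      exact (show ∀ u : K, u = K.w * u → u = 0 by decide) _ hi
    · rw [h1] at h
      exact Subgroup.relIndex_eq_one.mp (by omega)
  refine hcr ((D.th_ker _).mp ?_)
  have hc : D.th c * D.th r = D.th r * D.th c :=
    Subgroup.mem_centralizer_iff.mp (Subgroup.mem_comap.mp (hSN hr).1) _ ⟨c, rfl⟩
  rw [map_mul, map_mul, map_mul, map_inv, map_inv, hc, mul_inv_cancel_right, mul_inv_cancel]

end CfsgLib.Fi24Chz
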