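/-
The centralizer of an involution of large Fischer shape: isolated, Fi24' or Fi24.
-/
import Cfsg.Agent.S1715
import Cfsg.Agent.Lib.Fi24Chz.Quot
import Cfsg.Agent.Lib.Fi24Rec.Aut
import Cfsg.Agent.Lib.U6Chz.Setup
import Cfsg.Agent.Lib.Comp.Layer
import Cfsg.Agent.Lib.SUShort.Counts

set_option autoImplicit false
set_option linter.style.haveILetI false
set_option linter.unusedSectionVars false

namespace CfsgLib.Fi24Chz

open Cfsg CfsgLib.Comp CfsgLib.ExtraTwo CfsgLib.Fi24Q CfsgLib.CosetEnum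
open Equiv (Perm)

attribute [local irreducible] maskA maskB

universe u

variable {G : Type u} [Group G] [Finite G] {z : G} {Q : Subgroup (Cz z)} [hQn : Q.Normal]

/-- **The automorphism case.** -/
theorem aut_case (D : Pre z Q) {N M : Subgroup (Cz z)} [N.Normal] [M.Normal] (hQc : Q = Cfsg.pCore 2 ↥(Cz z))
    (hC : Subgroup.centralizer (Q : Set ↥(Cz z)) ≤ Q) (hE : Cfsg.IsExtraspecial 2 Q) (hQN : Q ≤ N) (hNM : N ≤ M)
    (hN : Nat.card N = 3 * Nat.card Q) {F : Type} [Field F] [Fintype F] (hF9 : Fintype.card F = 9)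
    (e : M ⧸ N.subgroupOf M ≃* Cfsg.PSU 4 F 3) (hMth : ∀ c, c ∈ M ↔ D.th c ∈ KL) (hM : M.index = 4)
    (hR : D.th.range = KF) (hnwc : ∃ (g : G) (a : Q), g * z * g⁻¹ = ((a : Cz z) : G) ∧ g * z * g⁻¹ ≠ z) :
    Nonempty (G ≃* Cfsg.Spor.Fi24) := by
  classical
  haveI : Fact (Nat.Prime 2) := ⟨Nat.prime_two⟩
  have hF : Cfsg.generalizedFittingSubgroup (Cz z) = Q := by
    rw [hQc, gfit_eq_pCore_iff, ← hQc]; exact hC
  obtain ⟨c0, hc0⟩ : ∃ c0, D.th c0 ∉ Par false := by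
    obtain ⟨c0, hc⟩ : cosR true false ∈ D.th.range := by rw [hR]; exact cosR_mem _ _
    refine ⟨c0, fun h => ?_⟩
    rw [hc] at h
    obtain ⟨k, hk, a, b, he, ha⟩ := h
    obtain ⟨h1, -⟩ := cos_unique (one_mem KL) hk ((one_mul _).trans he)
    simp [← h1] at ha
  obtain ⟨G0, hi, hG0⟩ := exists_G0 D hR.le hF hE false hc0
    fun x a hx hne q _ hm => good_par D hR hF hE x a hx hne q hm
  have hQR : ∀ q ∈ Q, (q : G) ∈ G0 := fun q hq => (hG0 q).mpr (by rw [(D.th_ker q).mpr hq]; exact one_mem _)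
  have hz0 : z ∈ G0 := by
    have := hQR _ D.zq.2
    rwa [D.coe_zq] at this
  set z0 : ↥G0 := ⟨z, hz0⟩ with hz0def
  set C0 := Subgroup.centralizer ({z0} : Set ↥G0) with hC0
  have hmem : ∀ c : ↥C0, ((c : ↥G0) : G) ∈ Cz z := fun c => Subgroup.mem_centralizer_singleton_iff.mpr
    (congrArg Subtype.val (Subgroup.mem_centralizer_singleton_iff.mp c.2))
  let ι : ↥C0 →* ↥(Cz z) := MonoidHom.mk' (fun c => ⟨((c : ↥G0) : G), hmem c⟩) fun _ _ => rfl
  have hι : Function.Injective ι := fun a b h => Subtype.ext (Subtype.ext (congrArg Subtype.val h :))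
  have hrange : ∀ c : ↥(Cz z), c ∈ ι.range ↔ D.th c ∈ Par false := by
    intro c
    constructor
    · rintro ⟨b, rfl⟩
      exact (hG0 _).mp (b : ↥G0).2
    · intro h
      exact ⟨⟨⟨c, (hG0 c).mpr h⟩, Subgroup.mem_centralizer_singleton_iff.mpr
        (Subtype.ext (Subgroup.mem_centralizer_singleton_iff.mp c.2))⟩, rfl⟩
  have hri : ι.range.index = 2 := Subgroup.index_eq_two_iff.mpr ⟨c0, fun b => by
    rw [hrange, hrange, map_mul]
    by_cases hb : D.th b ∈ Par false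
    · refine Or.inr ⟨hb, fun h => hc0 ?_⟩
      simpa using mul_mem (inv_mem hb) h
    · exact Or.inl ⟨Par_mul_out (hR ▸ ⟨b, rfl⟩) (hR ▸ ⟨c0, rfl⟩) hb hc0, hb⟩⟩
  haveI : ι.range.Normal := Subgroup.normal_of_index_eq_two hri
  have hMr : M ≤ ι.range := fun c hc => (hrange c).mpr (KL_le_Par _ ((hMth c).mp hc))
  have hNr : N ≤ ι.range := hNM.trans hMr
  have hQr : Q ≤ ι.range := hQN.trans hNr
  set Q0 := Q.comap ι with hQ0
  have hcomapCard : ∀ {A : Subgroup ↥(Cz z)}, A ≤ ι.range → Nat.card (A.comap ι) = Nat.card A := fun {A} hA => by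
    rw [Nat.card_congr ((A.comap ι).equivMapOfInjective ι hι).toEquiv, Subgroup.map_comap_eq_self hA]
  have hQ0p : IsPGroup 2 ↥Q0 := by
    refine IsPGroup.of_card (n := 13) ?_
    rw [hcomapCard hQr, D.card_Q]; norm_num
  have hpc : Cfsg.pCore 2 ↥C0 = Q0 := by
    refine le_antisymm ?_ (CfsgLib.le_pCore hQ0p)
    rw [← Subgroup.map_le_iff_le_comap]
    have h1 := CfsgLib.pCore_map_equiv 2 (MonoidHom.ofInjective hι)
    rintro _ ⟨c, hc, rfl⟩
    rw [hQc]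
    refine CfsgLib.map_pCore_le 2 ι.range ⟨⟨ι c, c, rfl⟩, ?_, rfl⟩
    rw [← h1]
    exact ⟨c, hc, rfl⟩
  have hF0 : Cfsg.generalizedFittingSubgroup ↥C0 = Q0 := by
    rw [← hpc, gfit_eq_pCore_iff, hpc]
    intro c hc
    refine hC (Subgroup.mem_centralizer_iff.mpr fun q hq => ?_)
    obtain ⟨q', rfl⟩ := hQr hq
    rw [← map_mul, ← map_mul, Subgroup.mem_centralizer_iff.mp hc q' hq]
  have hE0 : Cfsg.IsExtraspecial 2 ↥Q0 := Fi24Three.isExtraspecial_equiv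
    ((Q0.equivMapOfInjective ι hι).trans (MulEquiv.subgroupCongr (Subgroup.map_comap_eq_self hQr))).symm hE
  have hset : Cfsg.IsExtraspecialCentralizerSetting z0 Q0 6 := by
    refine ⟨?_, hF0, hE0, by rw [hcomapCard hQr, D.card_Q]; norm_num, ?_⟩
    · rw [← Subgroup.orderOf_coe]; exact D.z2
    obtain ⟨g, a, ha, hne⟩ := hnwc
    obtain ⟨g', hg', hge⟩ : ∃ g' : G, g' ∈ G0 ∧ g' * z * g'⁻¹ = g * z * g⁻¹ := by
      by_cases hg : g ∈ G0
      · exact ⟨g, hg, rfl⟩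
      · refine ⟨g * (c0 : G), (Subgroup.mul_mem_iff_of_index_two hi).mpr
          (iff_of_false hg fun h => hc0 ((hG0 c0).mp h)), ?_⟩
        have h : (c0 : G) * z = z * c0 := Subgroup.mem_centralizer_singleton_iff.mp c0.2
        calc g * (c0 : G) * z * (g * (c0 : G))⁻¹ = g * ((c0 : G) * z * (c0 : G)⁻¹) * g⁻¹ := by group
          _ = g * z * g⁻¹ := by rw [h, mul_inv_cancel_right]
    have hcen : (⟨g', hg'⟩ : ↥G0) * z0 * (⟨g', hg'⟩ : ↥G0)⁻¹ ∈ C0 := by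
      refine Subgroup.mem_centralizer_singleton_iff.mpr (Subtype.ext ?_)
      show g' * z * g'⁻¹ * z = z * (g' * z * g'⁻¹)
      rw [hge, ha]
      exact Subgroup.mem_centralizer_singleton_iff.mp (a : Cz z).2
    refine ⟨⟨g', hg'⟩, ⟨hcen, ?_⟩, fun h => hne (hge.symm.trans (congrArg Subtype.val h))⟩
    rw [hQ0, Subgroup.mem_comap]
    convert a.2
    exact Subtype.ext (hge.trans ha)
  have hLF : Cfsg.IsOfLargeFischerTypeAt z0 Q0 := by
    refine ⟨hset, N.comap ι, M.comap ι, inferInstance, inferInstance, Subgroup.comap_mono hQN,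
      Subgroup.comap_mono hNM, ?_, ⟨F, inferInstance, inferInstance, hF9, ?_⟩, ?_⟩
    · rw [hcomapCard hNr, hcomapCard hQr, hN]
    · let φ : ↥(M.comap ι) ≃* ↥M :=
        ((M.comap ι).equivMapOfInjective ι hι).trans (MulEquiv.subgroupCongr (Subgroup.map_comap_eq_self hMr))
      refine ⟨(QuotientGroup.congr _ _ φ ?_).trans e⟩
      ext m
      constructor
      · rintro ⟨c, hc, rfl⟩; exact hc
      · intro hm
        obtain ⟨c, rfl⟩ := φ.surjective m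
        exact ⟨c, hm, rfl⟩
    · have h := Subgroup.relIndex_mul_index hMr
      rw [← Subgroup.index_comap, hri, hM] at h
      omega
  haveI : Q0.Normal := hQn.comap ι
  obtain ⟨i, -, -⟩ := CfsgLib.Fi24Rec.exists_aut G0 hi z0 Q0 hLF (by
    show (Cfsg.generalizedFittingSubgroup ↥(Cz z)).map (Cz z).subtype = _
    conv_lhs => rw [hF, ← Subgroup.map_comap_eq_self hQr]
    rw [Subgroup.map_map, Subgroup.map_map]
    rfl)
  exact ⟨i.symm⟩

/-- **The theorem.** -/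
theorem chz {G : Type u} [Group G] [Finite G] {z : G} (hz : orderOf z = 2)
    {L : Type*} [Field L] [Fintype L] (hL : Fintype.card L = 9)
    (hJ : Cfsg.IsExtraspecial 2 ↥(Cfsg.pCore 2 ↥(Cz z))) (hJc : Nat.card ↥(Cfsg.pCore 2 ↥(Cz z)) = 2 ^ 13)
    (hCJ : Subgroup.centralizer ((Cfsg.pCore 2 ↥(Cz z)) : Set ↥(Cz z)) ≤ Cfsg.pCore 2 ↥(Cz z))
    (M K : Subgroup ↥(Cz z)) [M.Normal] [K.Normal] (hJM : Cfsg.pCore 2 ↥(Cz z) ≤ M) (hMK : M ≤ K)
    (hM3 : Nat.card ↥M = 3 * Nat.card ↥(Cfsg.pCore 2 ↥(Cz z))) (e : (↥K ⧸ M.subgroupOf K) ≃* Cfsg.PSU 4 L 3) :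
    Subgroup.centralizer ({z} : Set G) ⊔ Cfsg.oddCore G = ⊤ ∨
      (K.index = 2 ∧ Cfsg.Spor.IsoFi24' G) ∨
      (K.index = 4 ∧ (∀ x : ↥(Subgroup.centralizer ({z} : Set G)) ⧸ K, x ^ 2 = 1) ∧ Nonempty (G ≃* Cfsg.Spor.Fi24)) := by
  classical
  haveI : Fact (Nat.Prime 2) := ⟨Nat.prime_two⟩
  haveI : Fact (Nat.Prime 3) := ⟨Nat.prime_three⟩
  let F := GaloisField 3 2
  haveI : Fintype F := Fintype.ofFinite _
  have hF9 : Fintype.card F = 9 := by
    rw [← Nat.card_eq_fintype_card, GaloisField.card 3 2 (by norm_num)]; norm_num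
  obtain ⟨t⟩ := CfsgLib.SUShort.psu_congr (FiniteField.ringEquivOfCardEq (K := L) (K' := F) (hL.trans hF9.symm)) 4 3
  have eF : (↥K ⧸ M.subgroupOf K) ≃* Cfsg.PSU 4 F 3 := e.trans t
  have hF : Cfsg.generalizedFittingSubgroup ↥(Cz z) = Cfsg.pCore 2 ↥(Cz z) := (gfit_eq_pCore_iff 2).mpr hCJ
  obtain ⟨D, hxM, hKL, hrng, hK⟩ := exists_coord hz hF hJ hJc M K hJM hMK hM3 hF9 eF
  obtain ⟨hidx, hsq, hfull⟩ := quot_facts D hKL hrng hK
  by_cases hw : ∀ (g : G) (a : Cfsg.pCore 2 ↥(Cz z)), g * z * g⁻¹ = ((a : Cz z) : G) → g * z * g⁻¹ = z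
  · exact Or.inl (CfsgLib.U6Chz.sup_core hz fun g hg => isolated_of_weak D hrng hF hJ hw hg.symm)
  push Not at hw
  obtain ⟨g, a, hga, hne⟩ := hw
  rcases hidx with h1 | h2 | h4
  · refine absurd (weak_of_linear D hF hJ hJM hMK hM3 hF9 eF hxM (fun c => (hK c).mp ?_) g a hga) hne
    rw [Subgroup.index_eq_one.mp h1]; exact Subgroup.mem_top c
  · refine Or.inr (Or.inl ⟨h2, Cfsg.Agent.S1715.result z hz _ M K hF hJ hJc hJM hMK hM3 F hF9 eF h2 ⟨g, ⟨?_, ?_⟩, hne⟩⟩)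
    · rw [hga]; exact (a : Cz z).2
    · convert a.2
  · exact Or.inr (Or.inr ⟨h4, hsq, aut_case D rfl hCJ hJ hJM hMK hM3 hF9 eF hK h4 (hfull h4) ⟨g, a, hga, hne⟩⟩)

end CfsgLib.Fi24Chz
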